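import Groth.Agent.FinSect.Hartogs
import Mathlib.AlgebraicGeometry.Morphisms.Affine
import Mathlib.AlgebraicGeometry.Gluing
import Mathlib.Topology.Sheaves.SheafCondition.UniqueGluing

/-!
# Sections of affine morphisms extend across closed subsets with regular local rings of dimension at least two
-/

universe u

open CategoryTheory CategoryTheory.Limits AlgebraicGeometry TopologicalSpace Opposite

set_option backward.isDefEq.respectTransparency false
set_option backward.isDefEq.respectTransparency.types false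

noncomputable section

namespace Groth.Agent.FinSect.Hartogs

variable {X : Scheme.{u}} {U : X.Opens}
variable (hZ : ∀ z : X, z ∉ U → IsRegularLocalRing (X.presheaf.stalk z) ∧
  (2 : WithBot ℕ∞) ≤ ringKrullDim (X.presheaf.stalk z))

include hZ in
/-- Restriction of functions on an affine open to `U` is bijective. -/
theorem bijective_res [QuasiCompact U.ι] {V : X.Opens} (hV : IsAffineOpen V) :
    Function.Bijective (X.presheaf.map (homOfLE inf_le_left : V ⊓ U ⟶ V).op) := by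
  refine ⟨fun s t h => eq_of_res hZ h, fun s => ?_⟩
  have hex : ∀ z : V, ∃ (N : X.Opens) (hN : N ≤ V) (t : Γ(X, N)), z.1 ∈ N ∧
      X.presheaf.map (homOfLE inf_le_left : N ⊓ U ⟶ N).op t =
        X.presheaf.map (homOfLE (inf_le_inf_right U hN) : N ⊓ U ⟶ V ⊓ U).op s := by
    intro z
    by_cases hzU : z.1 ∈ U
    · refine ⟨V ⊓ U, inf_le_left, s, ⟨z.2, hzU⟩, ?_⟩
      rfl
    · exact exists_extend_near hZ hV z.2 hzU s
  choose N hN t hzN ht using hex
  have hcomp : TopCat.Presheaf.IsCompatible X.sheaf.1 N t := by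
    intro i j
    apply eq_of_res hZ
    have e : ∀ k : V, ∀ hk : N i ⊓ N j ≤ N k,
        X.presheaf.map (homOfLE inf_le_left : N i ⊓ N j ⊓ U ⟶ N i ⊓ N j).op (X.presheaf.map (homOfLE hk).op (t k)) =
          X.presheaf.map (homOfLE (inf_le_inf_right U (hk.trans (hN k)))).op s := by
      intro k hk
      have h := congrArg (X.presheaf.map (homOfLE (inf_le_inf_right U hk) : N i ⊓ N j ⊓ U ⟶ N k ⊓ U).op) (ht k)
      simp only [← CommRingCat.comp_apply, ← Functor.map_comp] at h ⊢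
      exact h
    exact (e i inf_le_left).trans (e j inf_le_right).symm
  obtain ⟨t₀, ht₀, -⟩ := X.sheaf.existsUnique_gluing' N V (fun z => homOfLE (hN z))
    (fun z hz => Opens.mem_iSup.2 ⟨⟨z, hz⟩, hzN ⟨z, hz⟩⟩) t hcomp
  refine ⟨t₀, ?_⟩
  refine X.sheaf.eq_of_locally_eq' (fun z => N z ⊓ U) (V ⊓ U) (fun z => homOfLE (inf_le_inf_right U (hN z)))
    (fun z hz => Opens.mem_iSup.2 ⟨⟨z, hz.1⟩, hzN ⟨z, hz.1⟩, hz.2⟩) _ _ fun z => ?_
  refine Eq.trans ?_ (ht z)
  have h1 : X.presheaf.map (homOfLE (hN z)).op t₀ = t z := ht₀ z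
  rw [← h1]
  show X.presheaf.map _ (X.presheaf.map _ t₀) = _
  simp only [← CommRingCat.comp_apply, ← Functor.map_comp]
  rfl

/-- Morphisms into an affine scheme correspond to homomorphisms of rings. -/
theorem exists_factor (W : X.Opens) {C : CommRingCat.{u}} (ψ : W.toScheme ⟶ Spec C) :
    ∃ φ : C ⟶ Γ(X, W), W.toSpecΓ ≫ Spec.map φ = ψ := by
  refine ⟨(Scheme.ΓSpecIso C).inv ≫ ψ.appTop ≫ W.topIso.hom, ?_⟩
  refine ext_of_isAffine ?_
  rw [Scheme.Hom.comp_appTop, Scheme.Opens.toSpecΓ_appTop, ← Category.assoc, Scheme.ΓSpecIso_naturality]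
  simp; exact Category.comp_id _

theorem factor_injective (W : X.Opens) {C : CommRingCat.{u}} {φ φ' : C ⟶ Γ(X, W)}
    (h : W.toSpecΓ ≫ Spec.map φ = W.toSpecΓ ≫ Spec.map φ') : φ = φ' := by
  have h1 := congrArg Scheme.Hom.appTop h
  rw [Scheme.Hom.comp_appTop, Scheme.Hom.comp_appTop, Scheme.Opens.toSpecΓ_appTop, ← Category.assoc,
    Scheme.ΓSpecIso_naturality, ← Category.assoc, Scheme.ΓSpecIso_naturality, Category.assoc, Category.assoc,
    cancel_epi, cancel_mono] at h1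
  exact h1

variable {Z : Scheme.{u}} (w : Z ⟶ X) [IsAffineHom w]

theorem exists_lift_factor {V : X.Opens} (hV : IsAffineOpen V) {W : X.Opens} (hW : W ≤ V)
    (j : W.toScheme ⟶ Z) (hj : j ≫ w = W.ι) :
    ∃ φ : Γ(Z, w ⁻¹ᵁ V) ⟶ Γ(X, W), W.toSpecΓ ≫ Spec.map φ ≫ (hV.preimage w).fromSpec = j := by
  have hC : IsAffineOpen (w ⁻¹ᵁ V) := hV.preimage w
  have hr : Set.range j ⊆ Set.range hC.fromSpec := by
    rintro _ ⟨p, rfl⟩
    rw [hC.range_fromSpec]
    show w (j p) ∈ V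
    rw [← Scheme.Hom.comp_apply, hj]
    exact hW p.2
  obtain ⟨φ, hφ⟩ := exists_factor W (IsOpenImmersion.lift hC.fromSpec j hr)
  exact ⟨φ, by rw [← Category.assoc, hφ, IsOpenImmersion.lift_fac]⟩

theorem res_comp {V W : X.Opens} (hV : IsAffineOpen V) (hW : W ≤ V) (θ : Γ(Z, w ⁻¹ᵁ V) ⟶ Γ(X, V)) :
    X.homOfLE hW ≫ V.toSpecΓ ≫ Spec.map θ ≫ (hV.preimage w).fromSpec =
      W.toSpecΓ ≫ Spec.map (θ ≫ X.presheaf.map (homOfLE hW).op) ≫ (hV.preimage w).fromSpec := by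
  rw [Spec.map_comp, Category.assoc, Scheme.Opens.toSpecΓ_SpecMap_presheaf_map_assoc]

include hZ in
theorem hom_ext [QuasiCompact U.ι] {N : X.Opens} (σ σ' : N.toScheme ⟶ Z) (hσ : σ ≫ w = N.ι)
    (hσ' : σ' ≫ w = N.ι)
    (h : X.homOfLE (inf_le_left : N ⊓ U ≤ N) ≫ σ = X.homOfLE (inf_le_left : N ⊓ U ≤ N) ≫ σ') : σ = σ' := by
  refine Scheme.hom_ext_of_forall σ σ' fun z => ?_
  obtain ⟨V, hV, hzV, hVN'⟩ := exists_isAffineOpen_mem_and_subset (U := N) z.2
  have hVN : V ≤ N := hVN'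
  refine ⟨(X.homOfLE hVN).opensRange, ⟨⟨z.1, hzV⟩, Subtype.ext (by simp)⟩, ?_⟩
  have key : X.homOfLE hVN ≫ σ = X.homOfLE hVN ≫ σ' := by
    obtain ⟨θ, hθ⟩ := exists_lift_factor w hV le_rfl (X.homOfLE hVN ≫ σ) (by
      rw [Category.assoc, hσ, Scheme.homOfLE_ι])
    obtain ⟨θ', hθ'⟩ := exists_lift_factor w hV le_rfl (X.homOfLE hVN ≫ σ') (by
      rw [Category.assoc, hσ', Scheme.homOfLE_ι])
    have h' : X.homOfLE (inf_le_left : V ⊓ U ≤ V) ≫ X.homOfLE hVN ≫ σ =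
        X.homOfLE (inf_le_left : V ⊓ U ≤ V) ≫ X.homOfLE hVN ≫ σ' := by
      have h2 := congrArg (X.homOfLE (inf_le_inf_right U hVN) ≫ ·) h
      simpa only [Scheme.homOfLE_homOfLE_assoc] using h2
    rw [← hθ, ← hθ', res_comp w hV, res_comp w hV, ← Category.assoc, ← Category.assoc _ (Spec.map _),
      cancel_mono] at h'
    have h3 : θ = θ' := by
      ext c
      exact (bijective_res hZ hV).1 (congrArg (fun m => m.hom c) (factor_injective _ h'))
    rw [← hθ, ← hθ', h3]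
  rw [← Scheme.Hom.isoOpensRange_inv_comp (X.homOfLE hVN), Category.assoc, Category.assoc, key]

include hZ in
theorem exists_local_extend [QuasiCompact U.ι] (σU : U.toScheme ⟶ Z) (hσU : σU ≫ w = U.ι) {V : X.Opens}
    (hV : IsAffineOpen V) :
    ∃ σ : V.toScheme ⟶ Z, σ ≫ w = V.ι ∧
      X.homOfLE (inf_le_left : V ⊓ U ≤ V) ≫ σ = X.homOfLE (inf_le_right : V ⊓ U ≤ U) ≫ σU := by
  have hC : IsAffineOpen (w ⁻¹ᵁ V) := hV.preimage w
  obtain ⟨φ, hφ⟩ := exists_lift_factor w hV (inf_le_left : V ⊓ U ≤ V)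
    (X.homOfLE (inf_le_right : V ⊓ U ≤ U) ≫ σU) (by rw [Category.assoc, hσU, Scheme.homOfLE_ι])
  let ρ := RingEquiv.ofBijective _ (bijective_res hZ hV)
  let θ : Γ(Z, w ⁻¹ᵁ V) ⟶ Γ(X, V) := CommRingCat.ofHom (ρ.symm.toRingHom.comp φ.hom)
  have hθ : θ ≫ X.presheaf.map (homOfLE (inf_le_left : V ⊓ U ≤ V)).op = φ := by
    ext c
    exact ρ.apply_symm_apply (φ.hom c)
  refine ⟨V.toSpecΓ ≫ Spec.map θ ≫ hC.fromSpec, ?_, ?_⟩
  · have hsec : w.app V ≫ θ = 𝟙 _ := by
      ext a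
      apply (bijective_res hZ hV).1
      refine congrArg (fun m => m.hom a) (factor_injective (V ⊓ U) (φ := (w.app V ≫ θ) ≫ _)
        (φ' := X.presheaf.map (homOfLE (inf_le_left : V ⊓ U ≤ V)).op) ?_)
      rw [Category.assoc, hθ, Spec.map_comp, ← cancel_mono hV.fromSpec]
      simp only [Category.assoc]
      rw [Scheme.Hom.app_eq_appLE, IsAffineOpen.SpecMap_appLE_fromSpec w hV hC le_rfl, reassoc_of% hφ, hσU,
        Scheme.Opens.toSpecΓ_SpecMap_presheaf_map_assoc, IsAffineOpen.toSpecΓ_fromSpec, Scheme.homOfLE_ι,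
        Scheme.homOfLE_ι]
    rw [Category.assoc, Category.assoc, ← IsAffineOpen.SpecMap_appLE_fromSpec w hV hC le_rfl,
      ← Scheme.Hom.app_eq_appLE, ← Category.assoc (Spec.map θ), ← Spec.map_comp, hsec, Spec.map_id,
      Category.id_comp, IsAffineOpen.toSpecΓ_fromSpec]
  · rw [res_comp w hV, hθ, hφ]

include hZ in
/-- A section over `U` of an affine morphism extends uniquely to a section. -/
theorem existsUnique_section [QuasiCompact U.ι] (σU : U.toScheme ⟶ Z) (hσU : σU ≫ w = U.ι) :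
    ∃! σ : X ⟶ Z, σ ≫ w = 𝟙 X ∧ U.ι ≫ σ = σU := by
  have hex : ∀ s : X, ∃ V : X.Opens, IsAffineOpen V ∧ s ∈ V := fun s => by
    obtain ⟨V, hV, hs, -⟩ := exists_isAffineOpen_mem_and_subset (X := X) (U := ⊤) (x := s) trivial
    exact ⟨V, hV, hs⟩
  choose V hV hmem using hex
  choose σ hσ hσr using fun s => exists_local_extend hZ w σU hσU (hV s)
  have hcov : IsOpenCover V := .mk (top_le_iff.mp fun s _ => TopologicalSpace.Opens.mem_iSup.2 ⟨s, hmem s⟩)
  let C := X.openCoverOfIsOpenCover V hcov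
  have hglue : ∀ i j : C.I₀, pullback.fst (C.f i) (C.f j) ≫ σ i = pullback.snd (C.f i) (C.f j) ≫ σ j := by
    intro i j
    let p := pullback.fst (C.f i) (C.f j) ≫ C.f i
    have hle : ∀ (k : C.I₀) (q : pullback (C.f i) (C.f j) ⟶ C.X k) (hq : q ≫ C.f k = p),
        ∃ h : p.opensRange ≤ V k, p.isoOpensRange.inv ≫ q = X.homOfLE h := by
      intro k q hq
      have hr : p.opensRange ≤ V k := by
        rintro _ ⟨a, rfl⟩
        rw [← hq, Scheme.Hom.comp_apply]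
        exact (q a).2
      refine ⟨hr, ?_⟩
      rw [← cancel_mono (V k).ι, Category.assoc, Scheme.homOfLE_ι]
      exact (congrArg (p.isoOpensRange.inv ≫ ·) hq).trans (Scheme.Hom.isoOpensRange_inv_comp p)
    obtain ⟨hi, hfi⟩ := hle i (pullback.fst _ _) rfl
    obtain ⟨hj, hfj⟩ := hle j (pullback.snd _ _) pullback.condition.symm
    rw [← cancel_epi p.isoOpensRange.inv, reassoc_of% hfi, reassoc_of% hfj]
    refine hom_ext hZ w _ _ (by rw [Category.assoc, hσ i, Scheme.homOfLE_ι])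
      (by rw [Category.assoc, hσ j, Scheme.homOfLE_ι]) ?_
    have e : ∀ (k : C.I₀) (h : p.opensRange ≤ V k),
        X.homOfLE (inf_le_left : p.opensRange ⊓ U ≤ p.opensRange) ≫ X.homOfLE h ≫ σ k =
          X.homOfLE (inf_le_right : p.opensRange ⊓ U ≤ U) ≫ σU := by
      intro k h
      have h2 := congrArg (X.homOfLE (inf_le_inf_right U h) ≫ ·) (hσr k)
      simpa only [Scheme.homOfLE_homOfLE_assoc] using h2
    exact (e i hi).trans (e j hj).symm
  refine ⟨C.glueMorphisms σ hglue, ⟨?_, ?_⟩, ?_⟩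
  · refine C.hom_ext _ _ fun i => ?_
    rw [Scheme.Cover.ι_glueMorphisms_assoc, hσ i, Category.comp_id]
    rfl
  · refine Scheme.hom_ext_of_forall _ _ fun z => ?_
    refine ⟨(X.homOfLE (inf_le_right : V z.1 ⊓ U ≤ U)).opensRange, ⟨⟨z.1, hmem z.1, z.2⟩, Subtype.ext (by simp)⟩, ?_⟩
    rw [← Scheme.Hom.isoOpensRange_inv_comp (X.homOfLE (inf_le_right : V z.1 ⊓ U ≤ U)), Category.assoc,
      Category.assoc, ← hσr z.1]
    congr 1
    rw [Scheme.homOfLE_ι_assoc, ← Scheme.homOfLE_ι X (inf_le_left : V z.1 ⊓ U ≤ V z.1), Category.assoc]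
    exact congrArg (X.homOfLE (inf_le_left : V z.1 ⊓ U ≤ V z.1) ≫ ·) (Scheme.Cover.ι_glueMorphisms C σ hglue z.1)
  · rintro τ ⟨hτ, hτU⟩
    refine C.hom_ext _ _ fun i => ?_
    rw [Scheme.Cover.ι_glueMorphisms]
    refine hom_ext hZ w _ _ (by rw [Category.assoc, hτ]; exact Category.comp_id _) (hσ i) ?_
    rw [hσr i, ← hτU]
    show X.homOfLE _ ≫ (V i).ι ≫ τ = _
    rw [Scheme.homOfLE_ι_assoc, Scheme.homOfLE_ι_assoc]

end Groth.Agent.FinSect.Hartogs
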