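import Groth.Agent.FinSect.Isom
import Groth.Agent.FinSect.AffineExtend

/-!
# Equivariant morphisms of torsors extend across regular points of dimension at least two
-/

universe u

open CategoryTheory MonoidalCategory CartesianMonoidalCategory MonObj AlgebraicGeometry
open CategoryTheory.Limits

set_option backward.isDefEq.respectTransparency false
set_option backward.isDefEq.respectTransparency.types false

noncomputable section

namespace Groth.Agent.FinSect

open Groth.Agent.Torsor (smul)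

variable {X : Scheme.{u}} {G Q₁ Q₂ : Over X} [GrpObj G]

/-- Extension of equivariant morphisms of torsors under finite flat groups. -/
theorem existsUnique_equivariant [IsFinite G.hom] [Flat G.hom] (U : X.Opens) [QuasiCompact U.ι]
    (hZ : ∀ z : X, z ∉ U → IsRegularLocalRing (X.presheaf.stalk z) ∧ (2 : WithBot ℕ∞) ≤ ringKrullDim (X.presheaf.stalk z))
    (a₁ : AlgGrp.Action G Q₁) (a₂ : AlgGrp.Action G Q₂)
    (h₁ : NonAbH1.IsTorsorFor Scheme.fppfPrecoverage a₁) (h₂ : NonAbH1.IsTorsorFor Scheme.fppfPrecoverage a₂)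
    (h' : (Over.pullback U.ι).obj Q₁ ⟶ (Over.pullback U.ι).obj Q₂)
    (hh' : AlgGrp.Action.IsEquivariant (a₁.bc U.ι) (a₂.bc U.ι) h') :
    ∃! h : Q₁ ⟶ Q₂, AlgGrp.Action.IsEquivariant a₁ a₂ h ∧ (Over.pullback U.ι).map h = h' := by
  haveI hfin₁ : IsFinite Q₁.hom := isFinite_torsor h₁
  haveI hfin₂ : IsFinite Q₂.hom := isFinite_torsor h₂
  haveI : Flat Q₁.hom := Torsor.of_isTorsorFor (fpqc_of_fppf h₁) @Flat ‹_›
  haveI : Surjective Q₁.hom := Torsor.surjective_of_isTorsorFor (fpqc_of_fppf h₁)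
  let f : Q₁ ⟶ 𝟙_ (Over X) := toUnit Q₁
  have hf : f.left = Q₁.hom := (Category.comp_id _).symm.trans (Over.w f)
  have : IsIso (lift a₁.act (snd G Q₁)) := h₁.1
  let sh := (lift a₁.act (snd G Q₁)).left
  have : IsIso sh := Functor.map_isIso (Over.forget X) (lift a₁.act (snd G Q₁))
  have hsq : IsPullback a₁.act.left (snd G Q₁).left f.left f.left := by
    rw [hf]
    refine IsPullback.of_iso_pullback ⟨by rw [Over.w a₁.act, Over.w (snd G Q₁)]⟩ (asIso sh) ?_ ?_
    · exact congrArg CommaMorphism.left (lift_fst a₁.act (snd G Q₁))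
    · exact congrArg CommaMorphism.left (lift_snd a₁.act (snd G Q₁))
  haveI : Surjective f.left := hf ▸ inferInstance
  haveI : Flat f.left := hf ▸ inferInstance
  haveI : QuasiCompact f.left := hf ▸ inferInstance
  obtain ⟨W, φ, ψ, hinv, hpb⟩ := Assoc.exists_bundle a₁ a₂ f hsq
  haveI hfinW : IsFinite ψ.left := by
    refine MorphismProperty.of_isPullback_of_descendsAlong (P := @IsFinite)
      (Q := (@Surjective ⊓ @Flat ⊓ @QuasiCompact : MorphismProperty Scheme.{u})) hpb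
      ⟨⟨inferInstance, inferInstance⟩, inferInstance⟩ ?_
    exact MorphismProperty.pullback_fst (P := @IsFinite) Q₁.hom Q₂.hom hfin₂
  have hψ : ψ.left = W.hom := (Category.comp_id _).symm.trans (Over.w ψ)
  haveI : IsFinite W.hom := hψ ▸ hfinW
  have hinv' : ∀ {L : Over X} (g : L ⟶ G) (x : L ⟶ Q₁) (z : L ⟶ Q₂),
      lift (smul a₁ g x) (smul a₂ g z) ≫ φ = lift x z ≫ φ := by
    intro L g x z
    have h := lift g (lift x z) ≫= hinv
    rw [lift_snd_assoc, ← Category.assoc, comp_lift, lift_whiskerLeft_assoc, lift_whiskerLeft_assoc,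
      lift_fst, lift_snd] at h
    exact h
  have hpo : IsPullback (fst Q₁ Q₂) φ f ψ :=
    IsPullback.of_map (Over.forget X) (Over.OverMorphism.ext hpb.w) hpb
  have hinj : ∀ {L : Over X} (x : L ⟶ Q₁) (z z' : L ⟶ Q₂), lift x z ≫ φ = lift x z' ≫ φ → z = z' := by
    intro L x z z' h
    have e := hpo.hom_ext (k := lift x z) (l := lift x z') (by rw [lift_fst, lift_fst]) h
    simpa using congrArg (· ≫ snd Q₁ Q₂) e
  -- equivariant families of morphisms are points of the quotient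
  have hdesc : ∀ (T : Over X) (k : T ⊗ Q₁ ⟶ Q₂),
      (∀ {L : Over X} (t : L ⟶ T) (g : L ⟶ G) (x : L ⟶ Q₁),
        lift t (smul a₁ g x) ≫ k = smul a₂ g (lift t x ≫ k)) →
      ∃ v : T ⟶ W, fst T Q₁ ≫ v = lift (snd T Q₁) k ≫ φ := by
    intro T k hk
    let π : T ⊗ Q₁ ⟶ T := fst T Q₁
    haveI : Flat π.left := MorphismProperty.pullback_fst (P := @Flat) T.hom Q₁.hom ‹_›
    haveI : Surjective π.left := MorphismProperty.pullback_fst (P := @Surjective) T.hom Q₁.hom ‹_›
    haveI : QuasiCompact π.left := MorphismProperty.pullback_fst (P := @QuasiCompact) T.hom Q₁.hom inferInstance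
    let m := lift (snd T Q₁) k ≫ φ
    have hc : ∀ {Z : Scheme.{u}} (g₁ g₂ : Z ⟶ (T ⊗ Q₁).left), g₁ ≫ π.left = g₂ ≫ π.left →
        g₁ ≫ m.left = g₂ ≫ m.left := by
      intro Z g₁ g₂ hg
      let L : Over X := Over.mk (g₁ ≫ (T ⊗ Q₁).hom)
      let y₁ : L ⟶ T ⊗ Q₁ := Over.homMk g₁ rfl
      let y₂ : L ⟶ T ⊗ Q₁ := Over.homMk g₂ (by
        show g₂ ≫ _ = g₁ ≫ (T ⊗ Q₁).hom
        rw [← Over.w π, reassoc_of% hg])
      obtain ⟨g, hg', -⟩ := (Torsor.isPseudoTorsor_iff a₁).1 h₁.1 L (y₁ ≫ snd T Q₁) (y₂ ≫ snd T Q₁)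
      have hfst : y₂ ≫ fst T Q₁ = y₁ ≫ fst T Q₁ := Over.OverMorphism.ext hg.symm
      have h2 : y₂ ≫ k = smul a₂ g (y₁ ≫ k) := by
        have := hk (y₁ ≫ fst T Q₁) g (y₁ ≫ snd T Q₁)
        rw [lift_comp_fst_snd, hg', ← hfst, lift_comp_fst_snd] at this
        exact this
      have h : y₂ ≫ m = y₁ ≫ m := by
        simp only [m, ← Category.assoc, comp_lift]
        rw [h2, ← hg']
        exact hinv' g _ _
      exact (congrArg CommaMorphism.left h).symm
    let v₀ := EffectiveEpi.desc π.left m.left fun g₁ g₂ hg => hc g₁ g₂ hg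
    have hv₀ : π.left ≫ v₀ = m.left := EffectiveEpi.fac _ _ _
    refine ⟨Over.homMk v₀ (by rw [← cancel_epi π.left, reassoc_of% hv₀, Over.w m, Over.w π]), ?_⟩
    exact Over.OverMorphism.ext hv₀
  -- the transpose over the open
  let adj := Over.mapPullbackAdj U.ι
  let HU : ∀ {L : Over U.toScheme}, ((Over.map U.ι).obj L ⟶ Q₁) → ((Over.map U.ι).obj L ⟶ Q₂) :=
    fun {L} x => (adj.homEquiv L Q₂).symm (adj.homEquiv L Q₁ x ≫ h')
  have hHU : ∀ {L : Over U.toScheme} (g : (Over.map U.ι).obj L ⟶ G) (x : (Over.map U.ι).obj L ⟶ Q₁),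
      HU (smul a₁ g x) = smul a₂ g (HU x) := by
    intro L g x
    apply (adj.homEquiv L Q₂).injective
    rw [homEquiv_smul]
    simp only [HU, adj, Equiv.apply_symm_apply]
    rw [homEquiv_smul]
    exact Torsor.smul_equivariant _ hh' _ _
  have hnat : ∀ {L L' : Over U.toScheme} (y : L ⟶ L') (x : (Over.map U.ι).obj L' ⟶ Q₁),
      HU ((Over.map U.ι).map y ≫ x) = (Over.map U.ι).map y ≫ HU x := by
    intro L L' y x
    simp only [HU]
    rw [adj.homEquiv_naturality_left, Category.assoc, adj.homEquiv_naturality_left_symm]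
  let T : Over X := Over.mk U.ι
  let M : Over U.toScheme := Over.mk (fst T Q₁).left
  let em : (Over.map U.ι).obj M ≅ T ⊗ Q₁ := Over.isoMk (Iso.refl _) (by
    show 𝟙 _ ≫ (T ⊗ Q₁).hom = (fst T Q₁).left ≫ U.ι
    rw [Category.id_comp]; exact (Over.w (fst T Q₁)).symm)
  let k : T ⊗ Q₁ ⟶ Q₂ := em.inv ≫ HU (em.hom ≫ snd T Q₁)
  have hkH : ∀ {L : Over U.toScheme} (y : (Over.map U.ι).obj L ⟶ T ⊗ Q₁), y ≫ k = HU (y ≫ snd T Q₁) := by
    intro L y
    have hy : y.left ≫ (fst T Q₁).left = L.hom := by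
      rw [← cancel_mono U.ι]
      exact ((congrArg (· ≫ U.ι) rfl).trans (Category.assoc _ _ _)).trans
        ((congrArg (y.left ≫ ·) (Over.w (fst T Q₁))).trans (Over.w y))
    let y' : L ⟶ M := Over.homMk y.left hy
    have hy' : (Over.map U.ι).map y' ≫ em.hom = y := Over.OverMorphism.ext (Category.comp_id _)
    rw [← hy', Category.assoc, show em.hom ≫ k = HU (em.hom ≫ snd T Q₁) from em.hom_inv_id_assoc _, ← hnat,
      Category.assoc]
  have hk : ∀ {L : Over X} (t : L ⟶ T) (g : L ⟶ G) (x : L ⟶ Q₁),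
      lift t (smul a₁ g x) ≫ k = smul a₂ g (lift t x ≫ k) := by
    intro L t g x
    let e : (Over.map U.ι).obj (Over.mk t.left) ≅ L := Over.isoMk (Iso.refl _) (by
      show 𝟙 _ ≫ L.hom = t.left ≫ U.ι
      rw [Category.id_comp]; exact (Over.w t).symm)
    rw [← cancel_epi e.hom, Torsor.comp_smul]
    simp only [← Category.assoc, comp_lift]
    rw [hkH, hkH, lift_snd, lift_snd, Torsor.comp_smul, hHU]
  obtain ⟨v, hv⟩ := hdesc T k hk
  -- sections and equivariant morphisms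
  let pr : T ⊗ Q₁ ⟶ Q₁ := snd T Q₁
  obtain ⟨σ, ⟨hσ, hσU⟩, hσu⟩ := Hartogs.existsUnique_section hZ W.hom v.left (Over.w v)
  let s : 𝟙_ (Over X) ⟶ W := Over.homMk σ hσ
  have hsT : toUnit T ≫ s = v := Over.OverMorphism.ext (by
    show (toUnit T).left ≫ σ = v.left
    rw [show (toUnit T).left = U.ι from (Category.comp_id _).symm.trans (Over.w (toUnit T))]
    exact hσU)
  let t := hpo.lift (𝟙 Q₁) (f ≫ s) (by
    rw [Category.id_comp, Category.assoc, show s ≫ ψ = 𝟙 (𝟙_ (Over X)) from toUnit_unique _ _, Category.comp_id])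
  let h := t ≫ snd Q₁ Q₂
  have ht : lift (𝟙 Q₁) h ≫ φ = f ≫ s := by
    have e : lift (𝟙 Q₁) h = t := by
      apply CartesianMonoidalCategory.hom_ext
      · rw [lift_fst]; exact (hpo.lift_fst _ _ _).symm
      · rw [lift_snd]
    rw [e]; exact hpo.lift_snd _ _ _
  have hx : ∀ {L : Over X} (x : L ⟶ Q₁), lift x (x ≫ h) ≫ φ = toUnit L ≫ s := by
    intro L x
    have := x ≫= ht
    rw [comp_lift_assoc, Category.comp_id] at this
    rw [this, ← Category.assoc, toUnit_unique (x ≫ f) (toUnit L)]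
  have heqv : AlgGrp.Action.IsEquivariant a₁ a₂ h := by
    show a₁.act ≫ h = (G ◁ h) ≫ a₂.act
    have e2 : smul a₁ (fst G Q₁) (snd G Q₁) = a₁.act := by rw [Torsor.smul, lift_fst_snd, Category.id_comp]
    have e3 : smul a₂ (fst G Q₁) (snd G Q₁ ≫ h) = (G ◁ h) ≫ a₂.act := by
      rw [Torsor.smul]
      congr 1
      all_goals (apply CartesianMonoidalCategory.hom_ext <;> simp)
    rw [← e2, ← e3]
    refine hinj (smul a₁ (fst G Q₁) (snd G Q₁)) _ _ ?_
    rw [hx, hinv', hx]
  have hres : (Over.pullback U.ι).map h = h' := by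
    have hpr : pr ≫ h = k := by
      refine hinj pr _ _ ?_
      rw [hx, ← hv, ← hsT, ← Category.assoc, toUnit_unique (fst T Q₁ ≫ toUnit T) (toUnit _)]
    apply (adj.homEquiv _ _).symm.injective
    let K := (Over.pullback U.ι).obj Q₁
    let y : (Over.map U.ι).obj K ⟶ T ⊗ Q₁ := lift (Over.homMk K.hom rfl) (adj.counit.app Q₁)
    have h5 : adj.counit.app Q₁ ≫ h = HU (adj.counit.app Q₁) := by
      have := hkH y
      rw [← hpr, ← Category.assoc, lift_snd] at this
      exact this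
    have h6 : (adj.homEquiv K Q₁) (adj.counit.app Q₁) = 𝟙 K := by
      rw [Adjunction.homEquiv_unit]; exact adj.right_triangle_components Q₁
    rw [adj.homEquiv_counit, show (Over.map U.ι).map ((Over.pullback U.ι).map h) ≫ adj.counit.app Q₂ =
      adj.counit.app Q₁ ≫ h from adj.counit.naturality h, h5]
    simp only [HU]
    rw [h6, Category.id_comp]
  refine ⟨h, ⟨heqv, hres⟩, ?_⟩
  rintro h₀ ⟨he₀, hr₀⟩
  -- any solution gives the same section
  obtain ⟨v₀, hv₀⟩ := hdesc (𝟙_ (Over X)) (snd (𝟙_ (Over X)) Q₁ ≫ h₀) (by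
    intro L t g x
    rw [lift_snd_assoc, lift_snd_assoc]
    exact Torsor.smul_equivariant a₁ he₀ g x)
  have hx₀ : ∀ {L : Over X} (x : L ⟶ Q₁), lift x (x ≫ h₀) ≫ φ = toUnit L ≫ v₀ := by
    intro L x
    have := lift (toUnit L) x ≫= hv₀
    rw [lift_fst_assoc, ← Category.assoc, comp_lift, lift_snd, lift_snd_assoc] at this
    exact this.symm
  have hk₀ : pr ≫ h₀ = k := by
    let e : (Over.map U.ι).obj M ≅ T ⊗ Q₁ := em
    rw [← cancel_epi e.hom, show e.hom ≫ k = HU (em.hom ≫ snd T Q₁) from em.hom_inv_id_assoc _]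
    apply (adj.homEquiv _ _).injective
    simp only [HU, Equiv.apply_symm_apply]
    rw [← Category.assoc, adj.homEquiv_naturality_right, hr₀]
  have hσ₀ : v₀.left = σ := by
    refine hσu _ ⟨Over.w v₀, ?_⟩
    have e1 : toUnit T ≫ v₀ = v := by
      let π : T ⊗ Q₁ ⟶ T := fst T Q₁
      haveI : Surjective π.left := MorphismProperty.pullback_fst (P := @Surjective) T.hom Q₁.hom ‹_›
      haveI : Flat π.left := MorphismProperty.pullback_fst (P := @Flat) T.hom Q₁.hom ‹_›
      haveI : QuasiCompact π.left := MorphismProperty.pullback_fst (P := @QuasiCompact) T.hom Q₁.hom inferInstance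
      have e2 : π ≫ toUnit T ≫ v₀ = π ≫ v := by
        show π ≫ toUnit T ≫ v₀ = fst T Q₁ ≫ v
        rw [hv, ← Category.assoc, toUnit_unique (π ≫ toUnit T) (toUnit _), ← hx₀ pr, hk₀]
      exact Over.OverMorphism.ext ((cancel_epi π.left).1 (congrArg CommaMorphism.left e2))
    have e3 : (toUnit T).left ≫ v₀.left = v.left := congrArg CommaMorphism.left e1
    rw [show (toUnit T).left = U.ι from (Category.comp_id _).symm.trans (Over.w (toUnit T))] at e3
    exact e3
  have hs₀ : v₀ = s := Over.OverMorphism.ext hσ₀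
  refine hinj (𝟙 Q₁) _ _ ?_
  have := hx₀ (𝟙 Q₁)
  rw [Category.id_comp, hs₀] at this
  rw [this, ht]

end Groth.Agent.FinSect
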