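import Groth.Agent.EtTorsGen.Extend
import Groth.Agent.NormSect.Basic
import Groth.Prelude.Def_Pi1

/-!
# A rational generic point of an integral scheme over a normal integral scheme extends to a section
-/

universe u

open CategoryTheory CategoryTheory.Limits AlgebraicGeometry TopologicalSpace

set_option backward.isDefEq.respectTransparency false
set_option backward.isDefEq.respectTransparency.types false

noncomputable section

namespace Groth.Agent.FinSect

variable {S Z : Scheme.{u}} [IsIntegral S] (f : Z ⟶ S)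

/-- The generic point lifts to every nonempty open. -/
theorem exists_lift (U : S.Opens) [Nonempty U] :
    ∃ l : Spec (S.residueField (genericPoint S)) ⟶ U.toScheme, l ≫ U.ι = S.fromSpecResidueField (genericPoint S) := by
  refine ⟨IsOpenImmersion.lift U.ι (S.fromSpecResidueField (genericPoint S)) ?_, IsOpenImmersion.lift_fac _ _ _⟩
  rw [Scheme.range_fromSpecResidueField, Scheme.Opens.range_ι, Set.singleton_subset_iff]
  obtain ⟨⟨p, hp⟩⟩ := ‹Nonempty U›
  exact (genericPoint_specializes p).mem_open U.2 hp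

/-- The affine case. -/
theorem exists_local_section [IsIntegralHom f] (hS : Pi1.IsNormalScheme S)
    (x : Spec (S.residueField (genericPoint S)) ⟶ Z) (hx : x ≫ f = S.fromSpecResidueField (genericPoint S))
    {V : S.Opens} (hV : IsAffineOpen V) [Nonempty V]
    (l : Spec (S.residueField (genericPoint S)) ⟶ V.toScheme) (hl : l ≫ V.ι = S.fromSpecResidueField (genericPoint S)) :
    ∃ σ : V.toScheme ⟶ Z, σ ≫ f = V.ι ∧ l ≫ σ = x := by
  have hgen : genericPoint S ∈ V := by
    obtain ⟨⟨p, hp⟩⟩ := ‹Nonempty V›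
    exact (genericPoint_specializes p).mem_open V.2 hp
  have hW : IsAffineOpen (f ⁻¹ᵁ V) := hV.preimage f
  have hrange : Set.range x ⊆ Set.range hW.fromSpec := by
    rintro _ ⟨p, rfl⟩
    rw [hW.range_fromSpec]
    show f (x p) ∈ V
    rw [← Scheme.Hom.comp_apply, hx, Scheme.fromSpecResidueField_apply]
    exact hgen
  let χ : Γ(Z, f ⁻¹ᵁ V) ⟶ S.residueField (genericPoint S) :=
    Spec.preimage (IsOpenImmersion.lift hW.fromSpec x hrange)
  have hχ : Spec.map χ ≫ hW.fromSpec = x := by
    simp only [χ, Spec.map_preimage]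
    exact IsOpenImmersion.lift_fac _ _ _
  let ι : Γ(S, V) ⟶ S.residueField (genericPoint S) :=
    S.presheaf.germ V (genericPoint S) hgen ≫ S.residue (genericPoint S)
  have hι : Spec.map ι ≫ hV.fromSpec = S.fromSpecResidueField (genericPoint S) := by
    show Spec.map (S.presheaf.germ V _ hgen ≫ S.residue _) ≫ hV.fromSpec = _
    rw [Spec.map_comp, Category.assoc]
    exact congrArg (Spec.map (S.residue (genericPoint S)) ≫ ·) (hV.fromSpecStalk_eq_fromSpecStalk hgen)
  have hcomp : f.app V ≫ χ = ι := by
    apply Spec.map_injective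
    rw [← cancel_mono hV.fromSpec, hι, Spec.map_comp, Category.assoc, Scheme.Hom.app_eq_appLE,
      IsAffineOpen.SpecMap_appLE_fromSpec f hV hW le_rfl, reassoc_of% hχ, hx]
  -- descend `χ` to the sections of the base
  haveI : IsFractionRing Γ(S, V) S.functionField := functionField_isFractionRing_of_isAffineOpen S V hV
  haveI : IsIntegrallyClosed Γ(S, V) := NormSect.isIntegrallyClosed_sections V fun p _ => (hS p).2
  have hres : Function.Bijective (S.residue (genericPoint S)).hom :=
    ⟨RingHom.injective (R := S.functionField) _, S.residue_surjective (genericPoint S)⟩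
  have hιinj : Function.Injective ι.hom := hres.1.comp (IsFractionRing.injective Γ(S, V) S.functionField)
  have hint : (f.app V).hom.IsIntegral := IsIntegralHom.isIntegral_app f V hV
  have hmem : ∀ c, ∃ a, ι.hom a = χ.hom c := by
    intro c
    obtain ⟨k, hk⟩ := hres.2 (χ.hom c)
    obtain ⟨P, hP, h0⟩ := hint c
    have hk' : IsIntegral Γ(S, V) k := ⟨P, hP, hres.1 (by
      rw [Polynomial.hom_eval₂, hk, map_zero]
      show Polynomial.eval₂ ι.hom (χ.hom c) P = 0
      rw [← hcomp, CommRingCat.hom_comp, ← Polynomial.hom_eval₂, h0, map_zero])⟩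
    obtain ⟨a, ha⟩ := IsIntegrallyClosed.isIntegral_iff.1 hk'
    exact ⟨a, (congrArg (S.residue (genericPoint S)).hom ha).trans hk⟩
  choose θ hθ using hmem
  let θ' : Γ(Z, f ⁻¹ᵁ V) ⟶ Γ(S, V) := CommRingCat.ofHom
    { toFun := θ
      map_one' := hιinj (by rw [hθ, map_one, map_one])
      map_mul' := fun a b => hιinj (by rw [map_mul, hθ, hθ, hθ, map_mul])
      map_zero' := hιinj (by rw [hθ, map_zero, map_zero])
      map_add' := fun a b => hιinj (by rw [map_add, hθ, hθ, hθ, map_add]) }
  have hθ' : θ' ≫ ι = χ := by ext c; exact hθ c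
  have hsec : f.app V ≫ θ' = 𝟙 _ := by
    ext a
    exact hιinj ((hθ _).trans (congrArg (fun m => m.hom a) hcomp))
  refine ⟨hV.isoSpec.hom ≫ Spec.map θ' ≫ hW.fromSpec, ?_, ?_⟩
  · rw [Category.assoc, Category.assoc, ← IsAffineOpen.SpecMap_appLE_fromSpec f hV hW le_rfl,
      ← Scheme.Hom.app_eq_appLE, ← Category.assoc (Spec.map θ'), ← Spec.map_comp, hsec, Spec.map_id,
      Category.id_comp, IsAffineOpen.isoSpec_hom_fromSpec]
  · have e : l ≫ hV.isoSpec.hom = Spec.map ι := by
      rw [← cancel_mono hV.fromSpec, Category.assoc, IsAffineOpen.isoSpec_hom_fromSpec, hl, hι]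
    rw [← Category.assoc l, e, ← Category.assoc, ← Spec.map_comp, hθ', hχ]

/-- A rational point over the generic point of an integral morphism to a normal integral scheme extends
to a section. -/
theorem exists_section [IsIntegralHom f] (hS : Pi1.IsNormalScheme S)
    (x : Spec (S.residueField (genericPoint S)) ⟶ Z) (hx : x ≫ f = S.fromSpecResidueField (genericPoint S)) :
    ∃ σ : S ⟶ Z, σ ≫ f = 𝟙 S ∧ S.fromSpecResidueField (genericPoint S) ≫ σ = x := by
  have hex : ∀ s : S, ∃ V : S.Opens, IsAffineOpen V ∧ s ∈ V := fun s => by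
    obtain ⟨V, hV, hs, -⟩ := exists_isAffineOpen_mem_and_subset (X := S) (U := ⊤) (x := s) trivial
    exact ⟨V, hV, hs⟩
  choose U hU hmem using hex
  have hne : ∀ s, Nonempty (U s) := fun s => ⟨⟨s, hmem s⟩⟩
  choose l hl using fun s => haveI := hne s; exists_lift (U s)
  choose σ hσ hlσ using fun s => haveI := hne s; exists_local_section f hS x hx (hU s) (l s) (hl s)
  have hcov : IsOpenCover U := .mk (top_le_iff.mp fun s _ => TopologicalSpace.Opens.mem_iSup.2 ⟨s, hmem s⟩)
  let C := S.openCoverOfIsOpenCover U hcov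
  have hglue : ∀ i j : C.I₀, pullback.fst (C.f i) (C.f j) ≫ σ i = pullback.snd (C.f i) (C.f j) ≫ σ j := by
    intro i j
    haveI : IsReduced (pullback (C.f i) (C.f j)) :=
      isReduced_of_isOpenImmersion (pullback.fst (C.f i) (C.f j) ≫ C.f i)
    have e : l i ≫ C.f i = l j ≫ C.f j := (hl i).trans (hl j).symm
    haveI := EtTorsGen.isDominant_of_openImmersion (pullback.fst (C.f i) (C.f j) ≫ C.f i)
      (pullback.lift (l i) (l j) e) (by rw [pullback.lift_fst_assoc]; exact hl i)
    refine ext_of_isDominant_of_isSeparated f ?_ (pullback.lift (l i) (l j) e) ?_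
    · rw [Category.assoc, Category.assoc, hσ i, hσ j]
      exact pullback.condition
    · rw [pullback.lift_fst_assoc, pullback.lift_snd_assoc, hlσ i, hlσ j]
  refine ⟨C.glueMorphisms σ hglue, C.hom_ext _ _ fun i => ?_, ?_⟩
  · rw [Scheme.Cover.ι_glueMorphisms_assoc, hσ i, Category.comp_id]
    rfl
  · obtain ⟨i⟩ : Nonempty S := inferInstance
    rw [← hl i, Category.assoc]
    show l i ≫ C.f i ≫ C.glueMorphisms σ hglue = x
    rw [Scheme.Cover.ι_glueMorphisms, hlσ i]

end Groth.Agent.FinSect
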