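import Groth.Agent.FinSect.Torsor
import Groth.Agent.Assoc.Bundle
import Groth.Prelude.Def_ActBC
import Mathlib.AlgebraicGeometry.Sites.Fpqc

/-!
# Isomorphisms of torsors extend from dense opens of normal integral schemes
-/

universe u

open CategoryTheory MonoidalCategory CartesianMonoidalCategory MonObj AlgebraicGeometry
open CategoryTheory.Limits

set_option backward.isDefEq.respectTransparency false
set_option backward.isDefEq.respectTransparency.types false

noncomputable section

namespace Groth.Agent.FinSect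

open Groth.Agent.Torsor (smul)

section Rel

variable {S : Scheme.{u}} {G P Q R : Over S} [GrpObj G] {a : AlgGrp.Action G P} {b : AlgGrp.Action G Q}
  {c : AlgGrp.Action G R}

def isoRefl (a : AlgGrp.Action G P) : NonAbH1.EquivIso a a :=
  ⟨Iso.refl P, by rw [Iso.refl_hom, Category.comp_id, MonoidalCategory.whiskerLeft_id, Category.id_comp]⟩

def isoTrans (e : NonAbH1.EquivIso a b) (e' : NonAbH1.EquivIso b c) : NonAbH1.EquivIso a c :=
  ⟨e.iso ≪≫ e'.iso, by
    rw [Iso.trans_hom, MonoidalCategory.whiskerLeft_comp, Category.assoc, ← e'.comm, reassoc_of% e.comm]⟩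

def isoSymm (e : NonAbH1.EquivIso a b) : NonAbH1.EquivIso b a :=
  ⟨e.iso.symm, by
    rw [Iso.symm_hom, ← cancel_mono e.iso.hom, Category.assoc, Iso.inv_hom_id, Category.comp_id, Category.assoc,
      e.comm, ← Category.assoc, ← MonoidalCategory.whiskerLeft_comp, Iso.inv_hom_id,
      MonoidalCategory.whiskerLeft_id, Category.id_comp]⟩

theorem exists_iso_of_cl_eq {K : Precoverage Scheme.{u}} {T T' : NonAbH1.TorsorSch G K} (h : T.cl = T'.cl) :
    Nonempty (NonAbH1.EquivIso T.act T'.act) := by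
  have heq : Equivalence fun A B : NonAbH1.TorsorSch G K => Nonempty (NonAbH1.EquivIso A.act B.act) :=
    ⟨fun A => ⟨isoRefl A.act⟩, fun ⟨e⟩ => ⟨isoSymm e⟩, fun ⟨e⟩ ⟨e'⟩ => ⟨isoTrans e e'⟩⟩
  exact heq.eqvGen_iff.1 (Quot.eqvGen_exact h)

end Rel

section Transpose

variable {X T : Scheme.{u}} {q : T ⟶ X} {G P : Over X} [GrpObj G] (a : AlgGrp.Action G P)

/-- Transposition of the action along base change. -/
theorem homEquiv_smul {L : Over T} (g : (Over.map q).obj L ⟶ G) (x : (Over.map q).obj L ⟶ P) :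
    (Over.mapPullbackAdj q).homEquiv L P (smul a g x) =
      smul (a.bc q) ((Over.mapPullbackAdj q).homEquiv L G g) ((Over.mapPullbackAdj q).homEquiv L P x) := by
  unfold Torsor.smul
  rw [AlgGrp.Action.bc_act]
  simp only [Adjunction.homEquiv_unit]
  rw [← comp_lift_assoc, Functor.Monoidal.lift_μ_assoc, ← Functor.map_comp]

end Transpose

variable {X : Scheme.{u}} {G P₁ P₂ : Over X} [GrpObj G]

/-- An isomorphism of finite torsors over a dense open of a normal integral scheme yields one globally. -/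
theorem exists_iso_of_restrict [IsIntegral X] (hX : Pi1.IsNormalScheme X) [IsFinite G.hom] [Flat G.hom]
    (a₁ : AlgGrp.Action G P₁) (a₂ : AlgGrp.Action G P₂)
    (h₁ : NonAbH1.IsTorsorFor Scheme.fppfPrecoverage a₁) (h₂ : NonAbH1.IsTorsorFor Scheme.fppfPrecoverage a₂)
    (U : X.Opens) [Nonempty U] (e : NonAbH1.EquivIso (a₁.bc U.ι) (a₂.bc U.ι)) :
    Nonempty (NonAbH1.EquivIso a₁ a₂) := by
  haveI hfin₁ : IsFinite P₁.hom := isFinite_torsor h₁
  haveI hfin₂ : IsFinite P₂.hom := isFinite_torsor h₂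
  haveI : Flat P₁.hom := Torsor.of_isTorsorFor (fpqc_of_fppf h₁) @Flat ‹_›
  haveI : Surjective P₁.hom := Torsor.surjective_of_isTorsorFor (fpqc_of_fppf h₁)
  -- the quotient of the product by the diagonal action
  let f : P₁ ⟶ 𝟙_ (Over X) := toUnit P₁
  have hf : f.left = P₁.hom := (Category.comp_id _).symm.trans (Over.w f)
  have : IsIso (lift a₁.act (snd G P₁)) := h₁.1
  let sh := (lift a₁.act (snd G P₁)).left
  have : IsIso sh := Functor.map_isIso (Over.forget X) (lift a₁.act (snd G P₁))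
  have hsq : IsPullback a₁.act.left (snd G P₁).left f.left f.left := by
    rw [hf]
    refine IsPullback.of_iso_pullback ⟨by rw [Over.w a₁.act, Over.w (snd G P₁)]⟩ (asIso sh) ?_ ?_
    · exact congrArg CommaMorphism.left (lift_fst a₁.act (snd G P₁))
    · exact congrArg CommaMorphism.left (lift_snd a₁.act (snd G P₁))
  haveI : Surjective f.left := hf ▸ inferInstance
  haveI : Flat f.left := hf ▸ inferInstance
  haveI : QuasiCompact f.left := hf ▸ inferInstance
  obtain ⟨W, φ, ψ, hinv, hpb⟩ := Assoc.exists_bundle a₁ a₂ f hsq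
  haveI hfinW : IsFinite ψ.left := by
    refine MorphismProperty.of_isPullback_of_descendsAlong (P := @IsFinite)
      (Q := (@Surjective ⊓ @Flat ⊓ @QuasiCompact : MorphismProperty Scheme.{u})) hpb
      ⟨⟨inferInstance, inferInstance⟩, inferInstance⟩ ?_
    exact MorphismProperty.pullback_fst (P := @IsFinite) P₁.hom P₂.hom hfin₂
  have hψ : ψ.left = W.hom := (Category.comp_id _).symm.trans (Over.w ψ)
  haveI : IsFinite W.hom := hψ ▸ hfinW
  have hinv' : ∀ {L : Over X} (g : L ⟶ G) (x : L ⟶ P₁) (z : L ⟶ P₂),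
      lift (smul a₁ g x) (smul a₂ g z) ≫ φ = lift x z ≫ φ := by
    intro L g x z
    have h := lift g (lift x z) ≫= hinv
    rw [lift_snd_assoc, ← Category.assoc, comp_lift, lift_whiskerLeft_assoc, lift_whiskerLeft_assoc,
      lift_fst, lift_snd] at h
    exact h
  -- the point of the quotient over the open given by the isomorphism
  let adj := Over.mapPullbackAdj U.ι
  let HU : ∀ {L : Over U.toScheme}, ((Over.map U.ι).obj L ⟶ P₁) → ((Over.map U.ι).obj L ⟶ P₂) :=
    fun {L} x => (adj.homEquiv L P₂).symm (adj.homEquiv L P₁ x ≫ e.iso.hom)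
  have hHU : ∀ {L : Over U.toScheme} (g : (Over.map U.ι).obj L ⟶ G) (x : (Over.map U.ι).obj L ⟶ P₁),
      HU (smul a₁ g x) = smul a₂ g (HU x) := by
    intro L g x
    apply (adj.homEquiv L P₂).injective
    rw [homEquiv_smul]
    simp only [HU, adj, Equiv.apply_symm_apply]
    rw [homEquiv_smul]
    exact Torsor.smul_equivariant _ e.comm _ _
  have hnat : ∀ {L L' : Over U.toScheme} (y : L ⟶ L') (x : (Over.map U.ι).obj L' ⟶ P₁),
      HU ((Over.map U.ι).map y ≫ x) = (Over.map U.ι).map y ≫ HU x := by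
    intro L L' y x
    simp only [HU]
    rw [adj.homEquiv_naturality_left, Category.assoc, adj.homEquiv_naturality_left_symm]
  let K : Over U.toScheme := (Over.pullback U.ι).obj P₁
  let x₀ : (Over.map U.ι).obj K ⟶ P₁ := adj.counit.app P₁
  let k := lift x₀ (HU x₀) ≫ φ
  haveI : Surjective K.hom := MorphismProperty.pullback_snd (P := @Surjective) P₁.hom U.ι ‹_›
  haveI : Flat K.hom := MorphismProperty.pullback_snd (P := @Flat) P₁.hom U.ι ‹_›
  haveI : QuasiCompact K.hom := MorphismProperty.pullback_snd (P := @QuasiCompact) P₁.hom U.ι inferInstance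
  have hcompat : ∀ {Z : Scheme.{u}} (g₁ g₂ : Z ⟶ K.left), g₁ ≫ K.hom = g₂ ≫ K.hom →
      g₁ ≫ k.left = g₂ ≫ k.left := by
    intro Z g₁ g₂ hg
    let L : Over U.toScheme := Over.mk (g₁ ≫ K.hom)
    let y₁ : L ⟶ K := Over.homMk g₁ rfl
    let y₂ : L ⟶ K := Over.homMk g₂ hg.symm
    obtain ⟨g, hg', -⟩ := (Torsor.isPseudoTorsor_iff a₁).1 h₁.1 _ ((Over.map U.ι).map y₁ ≫ x₀)
      ((Over.map U.ι).map y₂ ≫ x₀)
    have h : (Over.map U.ι).map y₂ ≫ k = (Over.map U.ι).map y₁ ≫ k := by
      simp only [k, ← Category.assoc, comp_lift]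
      rw [← hnat, ← hnat, ← hg', hHU]
      exact hinv' g _ _
    exact (congrArg CommaMorphism.left h).symm
  let w := EffectiveEpi.desc K.hom k.left fun g₁ g₂ hg => hcompat g₁ g₂ hg
  have hwfac : K.hom ≫ w = k.left := EffectiveEpi.fac _ _ _
  have hw : w ≫ W.hom = U.ι := by
    rw [← cancel_epi K.hom, reassoc_of% hwfac]
    exact Over.w k
  obtain ⟨l, hl⟩ := exists_lift U
  obtain ⟨σ, hσ, -⟩ := exists_section W.hom hX (l ≫ w) (by rw [Category.assoc, hw, hl])
  -- the morphism of torsors given by the section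
  let s : 𝟙_ (Over X) ⟶ W := Over.homMk σ hσ
  have hσψ : σ ≫ ψ.left = 𝟙 X := by rw [hψ]; exact hσ
  have hpo : IsPullback (fst P₁ P₂) φ f ψ :=
    IsPullback.of_map (Over.forget X) (Over.OverMorphism.ext hpb.w) hpb
  let t := hpo.lift (𝟙 P₁) (f ≫ s) (by
    rw [Category.id_comp, Category.assoc, show s ≫ ψ = 𝟙 (𝟙_ (Over X)) from toUnit_unique _ _, Category.comp_id])
  let h := t ≫ snd P₁ P₂
  have ht : t = lift (𝟙 P₁) h := by
    apply CartesianMonoidalCategory.hom_ext
    · rw [lift_fst]; exact hpo.lift_fst _ _ _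
    · rw [lift_snd]
  have heqv : AlgGrp.Action.IsEquivariant a₁ a₂ h := by
    have e1 : a₁.act ≫ t = lift a₁.act ((G ◁ h) ≫ a₂.act) := by
      apply hpo.hom_ext
      · rw [Category.assoc, IsPullback.lift_fst, Category.comp_id, lift_fst]
      · rw [Category.assoc, IsPullback.lift_snd, ← Category.assoc, toUnit_unique (a₁.act ≫ f) (snd G P₁ ≫ f)]
        have h2 := hinv' (fst G P₁) (snd G P₁) (snd G P₁ ≫ h)
        have e2 : smul a₁ (fst G P₁) (snd G P₁) = a₁.act := by
          rw [Torsor.smul, lift_fst_snd, Category.id_comp]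
        have e3 : smul a₂ (fst G P₁) (snd G P₁ ≫ h) = (G ◁ h) ≫ a₂.act := by
          rw [Torsor.smul]
          congr 1
          all_goals (apply CartesianMonoidalCategory.hom_ext <;> simp)
        rw [e2, e3] at h2
        rw [h2]
        have e4 : lift (snd G P₁) (snd G P₁ ≫ h) = snd G P₁ ≫ t := by
          rw [ht, comp_lift, Category.comp_id]
        rw [e4, Category.assoc, Category.assoc, IsPullback.lift_snd]
    have e5 := congrArg (· ≫ snd P₁ P₂) e1
    simp only [Category.assoc, lift_snd] at e5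
    exact e5
  haveI : IsIso h := Torsor.isIso_of_isEquivariant (fpqc_of_fppf h₁) h₂.1 h heqv
  exact ⟨⟨asIso h, heqv⟩⟩

/-- Restriction to a dense open is injective on torsor classes. -/
theorem bcMap_injective [IsIntegral X] (hX : Pi1.IsNormalScheme X) (G : Over X) [GrpObj G] [IsFinite G.hom]
    [Flat G.hom] (U : X.Opens) (hU : Dense (U : Set X)) :
    Function.Injective (NonAbH1.H1Sch.bcMap U.ι G Scheme.fppfPrecoverage) := by
  haveI : Nonempty U := hU.nonempty.to_subtype
  intro c c' h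
  obtain ⟨T, rfl⟩ := Quot.exists_rep c
  obtain ⟨T', rfl⟩ := Quot.exists_rep c'
  obtain ⟨e⟩ := exists_iso_of_cl_eq (T := T.bc U.ι) (T' := T'.bc U.ι) h
  obtain ⟨e'⟩ := exists_iso_of_restrict hX T.act T'.act T.isTorsor T'.isTorsor U e
  exact Quot.sound ⟨e'⟩

end Groth.Agent.FinSect
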