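import Groth.Agent.RegIdeal.Quasi
import Groth.Agent.Purity.DepthApps
import Groth.Agent.Purity.DepthPair
import Groth.Agent.ReflLoc.Normal
import Groth.Agent.Catenary.Ring
import Groth.Agent.Catenary.SerreNormal
import Groth.Prelude.Def_EGA4b
import Mathlib.RingTheory.Ideal.KrullsHeightTheorem

/-!
# Functions on infinitesimal neighbourhoods of a normal complete intersection extend
-/

universe u

open CategoryTheory AlgebraicGeometry TopologicalSpace

set_option backward.isDefEq.respectTransparency false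
set_option backward.isDefEq.respectTransparency.types false

namespace Groth.Agent.PowExtend

open Groth.Agent.RegLoc (exists_homogeneous_eval)
open Groth.Agent.Purity (TwoWith)

variable {A : Type u} [CommRing A] {c : ℕ} (f : Fin c → A)


theorem eval_mem {n : ℕ} {P : MvPolynomial (Fin c) A} (hP : P.IsHomogeneous n) (L : Ideal A)
    (h : ∀ d, P.coeff d ∈ L) : MvPolynomial.eval f P ∈ L * Ideal.span (Set.range f) ^ n := by
  classical
  rw [MvPolynomial.eval_eq]
  refine Ideal.sum_mem _ fun d hd => Ideal.mul_mem_mul (h d) ?_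
  have hdeg : ∑ i ∈ d.support, d i = n := by
    have := hP (MvPolynomial.mem_support_iff.1 hd)
    simpa [Finsupp.weight_apply, Finsupp.sum] using this
  rw [← hdeg, ← Finset.prod_pow_eq_pow_sum]
  exact Ideal.prod_mem_prod fun i _ =>
    Ideal.pow_mem_pow (Ideal.subset_span (Set.mem_range_self (f := f) i)) _

variable (hf : CAlgX.IsQuasiRegular f) {x y : A}

include hf in
theorem mem_of_mul_mem (hx : ∀ r, x * r ∈ Ideal.span (Set.range f) → r ∈ Ideal.span (Set.range f)) {k : ℕ} {a : A}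
    (ha : a ∈ Ideal.span (Set.range f) ^ k) (hxa : x * a ∈ Ideal.span (Set.range f) ^ (k + 1)) :
    a ∈ Ideal.span (Set.range f) ^ (k + 1) := by
  obtain ⟨P, hP, rfl⟩ := exists_homogeneous_eval f k ha
  have h := hf k (MvPolynomial.C x * P) (hP.C_mul x) (by rw [map_mul, MvPolynomial.eval_C]; exact hxa)
  rw [pow_succ']
  refine eval_mem f hP _ fun d => hx _ ?_
  simpa [MvPolynomial.coeff_C_mul] using h d

include hf in
theorem mem_pow_of_mul_mem (hx : ∀ r, x * r ∈ Ideal.span (Set.range f) → r ∈ Ideal.span (Set.range f)) :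
    ∀ {k : ℕ} {a : A}, x * a ∈ Ideal.span (Set.range f) ^ k → a ∈ Ideal.span (Set.range f) ^ k
  | 0, a, _ => by simp
  | k + 1, a, h => mem_of_mul_mem f hf hx (mem_pow_of_mul_mem hx (Ideal.pow_le_pow_right k.le_succ h)) h

include hf in
theorem exists_sub_mem (hy : ∀ r s, y * r - x * s ∈ Ideal.span (Set.range f) → ∃ z, r - x * z ∈ Ideal.span (Set.range f))
    {k : ℕ} {b d : A} (hb : b ∈ Ideal.span (Set.range f) ^ k) (hd : d ∈ Ideal.span (Set.range f) ^ k)
    (h : y * b - x * d ∈ Ideal.span (Set.range f) ^ (k + 1)) :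
    ∃ e ∈ Ideal.span (Set.range f) ^ k, b - x * e ∈ Ideal.span (Set.range f) ^ (k + 1) := by
  obtain ⟨P, hP, rfl⟩ := exists_homogeneous_eval f k hb
  obtain ⟨Q, hQ, rfl⟩ := exists_homogeneous_eval f k hd
  have h' := hf k (MvPolynomial.C y * P - MvPolynomial.C x * Q) ((hP.C_mul y).sub (hQ.C_mul x)) (by
    rw [map_sub, map_mul, map_mul, MvPolynomial.eval_C, MvPolynomial.eval_C]; exact h)
  have hP' : ∀ δ, P.coeff δ ∈ Ideal.span (Set.range f) ⊔ Ideal.span {x} := fun δ => by
    obtain ⟨z, hz⟩ := hy (P.coeff δ) (Q.coeff δ) (by simpa [MvPolynomial.coeff_C_mul] using h' δ)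
    rw [show P.coeff δ = (P.coeff δ - x * z) + x * z by ring]
    exact Submodule.add_mem_sup hz (Ideal.mem_span_singleton'.2 ⟨z, mul_comm _ _⟩)
  have h1 := eval_mem f hP _ hP'
  rw [Ideal.sup_mul, ← pow_succ'] at h1
  obtain ⟨u, hu, w, hw, huw⟩ := Submodule.mem_sup.1 h1
  obtain ⟨e, he, rfl⟩ := Ideal.mem_span_singleton_mul.1 hw
  exact ⟨e, he, by rwa [← huw, add_sub_cancel_right]⟩

include hf in
/-- A regular pair modulo a quasi-regular ideal is a regular pair modulo its powers. -/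
theorem two_pow (hx : ∀ r, x * r ∈ Ideal.span (Set.range f) → r ∈ Ideal.span (Set.range f))
    (hy : ∀ r s, y * r - x * s ∈ Ideal.span (Set.range f) → ∃ z, r - x * z ∈ Ideal.span (Set.range f)) (M : ℕ) :
    (∀ r, x * r ∈ Ideal.span (Set.range f) ^ M → r ∈ Ideal.span (Set.range f) ^ M) ∧
      ∀ r s, y * r - x * s ∈ Ideal.span (Set.range f) ^ M → ∃ z, r - x * z ∈ Ideal.span (Set.range f) ^ M := by
  refine ⟨fun r hr => mem_pow_of_mul_mem f hf hx hr, fun r s hrs => ?_⟩
  suffices ∀ k ≤ M, ∃ z, r - x * z ∈ Ideal.span (Set.range f) ^ k from this M le_rfl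
  intro k
  induction k with
  | zero => exact fun _ => ⟨0, by simp⟩
  | succ k ih =>
    intro hk
    obtain ⟨z, hz⟩ := ih (Nat.le_of_succ_le hk)
    have h1 : y * (r - x * z) - x * (s - y * z) ∈ Ideal.span (Set.range f) ^ (k + 1) := by
      rw [show y * (r - x * z) - x * (s - y * z) = y * r - x * s by ring]
      exact Ideal.pow_le_pow_right hk hrs
    have h2 : s - y * z ∈ Ideal.span (Set.range f) ^ k := by
      refine mem_pow_of_mul_mem f hf hx ?_
      rw [show x * (s - y * z) = y * (r - x * z) - (y * (r - x * z) - x * (s - y * z)) by ring]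
      exact sub_mem (Ideal.mul_mem_left _ _ hz) (Ideal.pow_le_pow_right k.le_succ h1)
    obtain ⟨e, -, he⟩ := exists_sub_mem f hf hy hz h2 h1
    exact ⟨z + e, by rwa [show r - x * (z + e) = r - x * z - x * e by ring]⟩


theorem bijective_restrict (A : Type u) [CommRing A] [IsDomain A] [IsIntegrallyClosed A] (hA : EGA4.IsExcellent A)
    (J : Ideal A) (hJ : ∀ x : PrimeSpectrum A, J ≤ x.asIdeal ↔ x ∉ EGA4.regLocus A) (P : Ideal A) [P.IsPrime]
    (rs : List A) (hrs : RingTheory.Sequence.IsRegular A rs) (hp : Ideal.ofList rs = P)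
    (hnorm : IsIntegrallyClosed (A ⧸ P)) (hht : P.height + J.height ≤ (P ⊔ J).height)
    (U : (Spec (CommRingCat.of A)).Opens)
    (hUreg : ∀ x : PrimeSpectrum A, P ≤ x.asIdeal → x ∈ EGA4.regLocus A → x ∈ U.1) (m : ℕ) :
    Function.Bijective ((Spec (CommRingCat.of (A ⧸ P ^ m))).presheaf.map (homOfLE (le_top :
      Spec.map (CommRingCat.ofHom (Ideal.Quotient.mk (P ^ m))) ⁻¹ᵁ U ≤ ⊤)).op).hom := by
  haveI : IsNoetherianRing A := hA.1
  have hcat : CAlg.IsCatenary A := hA.2.1.2 A inferInstance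
  let f : Fin rs.length → A := rs.get
  have hfP : Ideal.span (Set.range f) = P := by
    rw [← hp, Ideal.ofList]; congr 1; ext a; simp [f, List.mem_iff_get]
  have hf : CAlgX.IsQuasiRegular f := RegIdeal.isQuasiRegular_of_wReg ((RegIdeal.wReg_iff f).2 (by
    simp only [f, List.ofFn_get]; exact hrs.toIsWeaklyRegular))
  have hJ2 : 2 ≤ J.height := by
    rw [Ideal.height_eq_inf_minimalPrimes]
    refine le_iInf₂ fun q hq => ?_
    haveI := hq.1.1
    by_contra hlt
    haveI : IsNoetherianRing (Localization.AtPrime q) := IsLocalization.isNoetherianRing q.primeCompl _ inferInstance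
    haveI : IsDomain (Localization.AtPrime q) :=
      IsLocalization.isDomain_localization (Ideal.primeCompl_le_nonZeroDivisors q)
    haveI : IsIntegrallyClosed (Localization.AtPrime q) :=
      isIntegrallyClosed_of_isLocalization _ q.primeCompl (Ideal.primeCompl_le_nonZeroDivisors q)
    refine (hJ ⟨q, inferInstance⟩).1 hq.1.2 ?_
    show IsRegularLocalRing (Localization.AtPrime q)
    refine Catenary.isRegularLocalRing_of_normal ?_
    rw [IsLocalization.AtPrime.ringKrullDim_eq_height q (Localization.AtPrime q), ← WithBot.coe_one, WithBot.coe_le_coe]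
    simpa using lt_of_not_ge hlt
  haveI := hnorm
  let Z : Set (PrimeSpectrum (A ⧸ P)) := PrimeSpectrum.comap (Ideal.Quotient.mk P) ⁻¹' (U.1 : Set (PrimeSpectrum A))ᶜ
  have hZ : IsClosed Z := U.2.isClosed_compl.preimage (PrimeSpectrum.continuous_comap _)
  obtain ⟨a, b, ha, hb, hab⟩ := Purity.exists_pair_of_depth (PrimeSpectrum.vanishingIdeal Z) fun Q hQ hle => by
    haveI := hQ
    refine ReflLoc.two_le_depth_atPrime Q ?_
    have hQZ : (⟨Q, hQ⟩ : PrimeSpectrum (A ⧸ P)) ∈ Z := by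
      have := (PrimeSpectrum.mem_zeroLocus ⟨Q, hQ⟩ _).2 hle
      rwa [PrimeSpectrum.zeroLocus_vanishingIdeal_eq_closure, hZ.closure_eq] at this
    let q := Q.comap (Ideal.Quotient.mk P)
    haveI : q.IsPrime := Ideal.comap_isPrime _ _
    have hPq : P ≤ q := fun r hr => by
      show Ideal.Quotient.mk P r ∈ Q
      rw [Ideal.Quotient.eq_zero_iff_mem.2 hr]; exact Q.zero_mem
    have hJq : J ≤ q := (hJ ⟨q, inferInstance⟩).2 fun hr => hQZ (hUreg _ hPq hr)
    have hsum := Catenary.height_quotient_add hcat P q hPq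
    rw [Ideal.map_comap_of_surjective _ Ideal.Quotient.mk_surjective] at hsum
    have h1 : P.height + 2 ≤ Q.height + P.height :=
      calc P.height + 2 ≤ P.height + J.height := by gcongr
        _ ≤ (P ⊔ J).height := hht
        _ ≤ q.height := Ideal.height_mono (sup_le hPq hJq)
        _ = Q.height + P.height := hsum.symm
    rw [add_comm] at h1
    exact (ENat.add_le_add_iff_right (P.height_ne_top (Ideal.IsPrime.ne_top inferInstance))).1 h1
  obtain ⟨a₀, rfl⟩ := Ideal.Quotient.mk_surjective a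
  obtain ⟨b₀, rfl⟩ := Ideal.Quotient.mk_surjective b
  have key := two_pow f hf (x := a₀) (y := b₀)
    (fun r hr => by
      rw [hfP] at hr ⊢
      rw [← Ideal.Quotient.eq_zero_iff_mem] at hr ⊢
      exact hab.inj _ (by rw [smul_eq_mul, ← map_mul]; exact hr))
    (fun r s hrs => by
      rw [hfP] at hrs
      rw [← Ideal.Quotient.eq] at hrs
      obtain ⟨z, hz⟩ := hab.cancel (Ideal.Quotient.mk P r) (Ideal.Quotient.mk P s) (by
        rw [smul_eq_mul, smul_eq_mul, ← map_mul, ← map_mul]; exact hrs)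
      obtain ⟨z₀, rfl⟩ := Ideal.Quotient.mk_surjective z
      rw [smul_eq_mul, ← map_mul, Ideal.Quotient.eq] at hz
      exact ⟨z₀, by rw [hfP]; exact hz⟩) m
  rw [hfP] at key
  let X := Spec (CommRingCat.of (A ⧸ P ^ m))
  let W : X.Opens := Spec.map (CommRingCat.ofHom (Ideal.Quotient.mk (P ^ m))) ⁻¹ᵁ U
  haveI : IsNoetherianRing (A ⧸ P ^ m) := inferInstance
  haveI : IsLocallyNoetherian X := inferInstance
  have hV : IsAffineOpen (⊤ : X.Opens) := isAffineOpen_top _
  let e : A ⧸ P ^ m ≃+* Γ(X, ⊤) := (Scheme.ΓSpecIso (CommRingCat.of (A ⧸ P ^ m))).symm.commRingCatIsoToRingEquiv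
  have hmem : ∀ r₀ : A, Ideal.Quotient.mk P r₀ ∈ PrimeSpectrum.vanishingIdeal Z →
      e (Ideal.Quotient.mk (P ^ m) r₀) ∈ Purity.outerIdeal W hV := by
    intro r₀ hr₀
    rw [Purity.outerIdeal, PrimeSpectrum.mem_vanishingIdeal]
    intro y hy
    let y' : PrimeSpectrum (A ⧸ P ^ m) :=
      PrimeSpectrum.comap (Scheme.ΓSpecIso (CommRingCat.of (A ⧸ P ^ m))).inv.hom y
    have hy' : hV.fromSpec y = y' := by
      have h := IsAffineOpen.fromSpec_top (X := X)
      rw [Scheme.isoSpec_Spec_inv] at h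
      exact congrArg (fun g => (g : Spec Γ(X, ⊤) ⟶ X) y) h
    show r₀ ∈ (PrimeSpectrum.comap (Ideal.Quotient.mk (P ^ m)) y').asIdeal
    set q := PrimeSpectrum.comap (Ideal.Quotient.mk (P ^ m)) y'
    have hqU : q ∉ U.1 := fun h => hy (by rw [hy']; exact h)
    have hPq : P ≤ q.asIdeal := by
      rcases Nat.eq_zero_or_pos m with rfl | hm
      · exact absurd y'.2.ne_top (not_not.2 (Ideal.eq_top_of_isUnit_mem _ y'.asIdeal.zero_mem (by
          haveI : Subsingleton (A ⧸ P ^ 0) := Ideal.Quotient.subsingleton_iff.2 (by simp)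
          exact isUnit_of_subsingleton _)))
      · refine (Ideal.IsPrime.pow_le_iff (P := q.asIdeal) hm.ne').1 fun r hr => ?_
        show Ideal.Quotient.mk (P ^ m) r ∈ y'.asIdeal
        rw [Ideal.Quotient.eq_zero_iff_mem.2 hr]; exact y'.asIdeal.zero_mem
    have hmapP : (q.asIdeal.map (Ideal.Quotient.mk P)).IsPrime :=
      Ideal.map_isPrime_of_surjective Ideal.Quotient.mk_surjective (by rwa [Ideal.mk_ker])
    let Q : PrimeSpectrum (A ⧸ P) := ⟨_, hmapP⟩
    have hQq : PrimeSpectrum.comap (Ideal.Quotient.mk P) Q = q := PrimeSpectrum.ext (by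
      show (q.asIdeal.map (Ideal.Quotient.mk P)).comap _ = q.asIdeal
      rw [Ideal.comap_map_of_surjective _ Ideal.Quotient.mk_surjective, ← RingHom.ker_eq_comap_bot,
        Ideal.mk_ker, sup_eq_left.mpr hPq])
    rw [← hQq]
    exact (PrimeSpectrum.mem_vanishingIdeal _ _).1 hr₀ Q (by show ¬ _ ∈ U.1; rw [hQq]; exact hqU)
  refine Purity.bijective_ι_app_top W hV ⟨e (Ideal.Quotient.mk _ a₀), e (Ideal.Quotient.mk _ b₀), hmem a₀ ha,
    hmem b₀ hb, fun n hn => ?_, fun n n' hnn => ?_⟩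
  · obtain ⟨r, rfl⟩ := e.surjective n
    obtain ⟨r, rfl⟩ := Ideal.Quotient.mk_surjective r
    rw [smul_eq_mul, ← map_mul, ← map_mul, EmbeddingLike.map_eq_zero_iff, Ideal.Quotient.eq_zero_iff_mem] at hn
    rw [Ideal.Quotient.eq_zero_iff_mem.2 (key.1 r hn), map_zero]
  · obtain ⟨r, rfl⟩ := e.surjective n
    obtain ⟨r, rfl⟩ := Ideal.Quotient.mk_surjective r
    obtain ⟨s, rfl⟩ := e.surjective n'
    obtain ⟨s, rfl⟩ := Ideal.Quotient.mk_surjective s
    rw [smul_eq_mul, smul_eq_mul, ← map_mul, ← map_mul, ← map_mul, ← map_mul, EmbeddingLike.apply_eq_iff_eq,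
      Ideal.Quotient.eq] at hnn
    obtain ⟨z, hz⟩ := key.2 r s hnn
    refine ⟨e (Ideal.Quotient.mk _ z), ?_⟩
    rw [smul_eq_mul, ← map_mul, ← map_mul, EmbeddingLike.apply_eq_iff_eq, Ideal.Quotient.eq]
    exact hz

end Groth.Agent.PowExtend
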