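import Groth.Agent.FinSect.Valuative
import Groth.Agent.NeronGen.Dense
import Groth.Agent.S6370
import Mathlib.RingTheory.Flat.TorsionFree

/-!
# Torsors under proper flat groups over Dedekind domains are determined by their generic fibres
-/

universe u

open CategoryTheory MonoidalCategory CartesianMonoidalCategory MonObj AlgebraicGeometry
open CategoryTheory.Limits

set_option backward.isDefEq.respectTransparency false
set_option backward.isDefEq.respectTransparency.types false

noncomputable section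

namespace Groth.Agent.FinSect

open Groth.Agent.Torsor (smul)

variable {R : Type u} [CommRing R] [IsDedekindDomain R]

variable {G P₁ P₂ : Over (Spec (CommRingCat.of R))} [GrpObj G]

theorem isProper_torsor [IsProper G.hom] {a : AlgGrp.Action G P₁}
    (h : NonAbH1.IsTorsorFor Scheme.fppfPrecoverage a) : IsProper P₁.hom := by
  have := S0086.result.{u}
  exact Torsor.of_isTorsorFor (fpqc_of_fppf h) (@IsProper : MorphismProperty Scheme.{u}) ‹_›

theorem flat_torsor [Flat G.hom] {a : AlgGrp.Action G P₁}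
    (h : NonAbH1.IsTorsorFor Scheme.fppfPrecoverage a) : Flat P₁.hom :=
  Torsor.of_isTorsorFor (fpqc_of_fppf h) @Flat ‹_›

/-- A generically trivial torsor under a proper group over a Dedekind domain is trivial. -/
theorem hasSectionOver_dedekind (R : Type u) [CommRing R] [IsDedekindDomain R]
    {G : Over (Spec (CommRingCat.of R))} [GrpObj G] [IsProper G.hom]
    (P : NonAbH1.TorsorSch G Scheme.fppfPrecoverage) (h : NonAbH1.HasSectionOver P.X (Neron.genPt R)) :
    NonAbH1.HasSectionOver P.X (𝟙 (Spec (CommRingCat.of R))) := by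
  haveI := isProper_torsor P.isTorsor
  obtain ⟨y, hy⟩ := h
  obtain ⟨σ, hσ, -⟩ := exists_section_dedekind R P.X.hom y hy
  exact ⟨σ, hσ⟩

/-- The integral closure of a Dedekind domain in a finite extension of its fraction field. -/
theorem isDedekindDomain_closure (L : Type u) [Field L] [Algebra (FractionRing R) L]
    [FiniteDimensional (FractionRing R) L] [Algebra R L] [IsScalarTower R (FractionRing R) L] :
    IsDedekindDomain (integralClosure R L) := by
  by_cases hR : IsField R
  · letI := (isField_of_isIntegral_of_isField' (S := integralClosure R L) hR).toField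
    infer_instance
  · refine (S6370.result R (FractionRing R) L (integralClosure R L) ?_).1
    exact le_antisymm (Ring.krullDimLE_iff.1 inferInstance)
      (Order.succ_le_of_lt (a := (0 : WithBot ℕ∞)) (by
        by_contra h
        haveI : Ring.KrullDimLE 0 R := Ring.krullDimLE_iff.2 (le_of_not_gt h)
        exact hR Ring.KrullDimLE.isField_of_isDomain))

/-- Isomorphisms of generic fibres of torsors under proper flat groups extend. -/
theorem exists_iso_of_generic [IsProper G.hom] [Flat G.hom]
    (a₁ : AlgGrp.Action G P₁) (a₂ : AlgGrp.Action G P₂)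
    (h₁ : NonAbH1.IsTorsorFor Scheme.fppfPrecoverage a₁) (h₂ : NonAbH1.IsTorsorFor Scheme.fppfPrecoverage a₂)
    (e : NonAbH1.EquivIso (a₁.bc (Neron.genPt R)) (a₂.bc (Neron.genPt R))) :
    Nonempty (NonAbH1.EquivIso a₁ a₂) := by
  haveI := isProper_torsor h₁
  haveI := isProper_torsor h₂
  haveI := flat_torsor h₁
  haveI := flat_torsor h₂
  haveI : Surjective P₁.hom := Torsor.surjective_of_isTorsorFor (fpqc_of_fppf h₁)
  -- a closed point of the generic fibre
  let K : CommRingCat.{u} := CommRingCat.of (FractionRing R)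
  let q : Spec K ⟶ (Spec (CommRingCat.of R)) := Neron.genPt R
  let C := pullback P₁.hom q
  haveI : IsProper (pullback.snd P₁.hom q) := MorphismProperty.pullback_snd (P := @IsProper) _ _ ‹_›
  haveI : Surjective (pullback.snd P₁.hom q) := MorphismProperty.pullback_snd (P := @Surjective) _ _ ‹_›
  haveI : CompactSpace C := QuasiCompact.compactSpace_of_compactSpace (pullback.snd P₁.hom q)
  obtain ⟨p₀⟩ : Nonempty (Spec K) := inferInstance
  obtain ⟨c₀, -⟩ := (pullback.snd P₁.hom q).surjective p₀
  obtain ⟨c, -, hc⟩ := isClosed_univ.exists_closed_singleton (X := C) ⟨c₀, trivial⟩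
  haveI : IsClosedImmersion (C.fromSpecResidueField c) := isClosed_singleton_iff_isClosedImmersion.1 hc
  let m := C.fromSpecResidueField c ≫ pullback.snd P₁.hom q
  haveI : IsFinite m := isFinite_iff_locallyOfFiniteType_of_jacobsonSpace.2 inferInstance
  let φ : K ⟶ C.residueField c := Spec.preimage m
  have hφ : Spec.map φ = m := Spec.map_preimage m
  have hφfin : φ.hom.Finite := by rw [← IsFinite.SpecMap_iff, hφ]; infer_instance
  let L := C.residueField c
  letI : Algebra (FractionRing R) L := φ.hom.toAlgebra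
  haveI : FiniteDimensional (FractionRing R) L := hφfin
  letI : Algebra R L := (φ.hom.comp (algebraMap R (FractionRing R))).toAlgebra
  haveI : IsScalarTower R (FractionRing R) L := IsScalarTower.of_algebraMap_eq' rfl
  let D := integralClosure R L
  haveI : IsDedekindDomain D := isDedekindDomain_closure L
  haveI : IsFractionRing D L := integralClosure.isFractionRing_of_finite_extension (FractionRing R) L
  let ρ : CommRingCat.of R ⟶ CommRingCat.of D := CommRingCat.ofHom (algebraMap R D)
  let ιL : CommRingCat.of D ⟶ CommRingCat.of L := CommRingCat.ofHom (algebraMap D L)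
  let T : Over (Spec (CommRingCat.of R)) := Over.mk (Spec.map ρ)
  have hρinj : Function.Injective (algebraMap R D) := fun r r' h =>
    IsFractionRing.injective R (FractionRing R) (φ.hom.injective (congrArg Subtype.val h))
  haveI : Module.Flat R D := by
    rw [IsDedekindDomain.flat_iff_torsion_eq_bot, ← Submodule.isTorsionFree_iff_torsion_eq_bot]
    haveI : FaithfulSMul R D := (faithfulSMul_iff_algebraMap_injective R D).2 hρinj
    infer_instance
  haveI : Flat T.hom := by
    rw [show T.hom = Spec.map ρ from rfl, HasRingHomProperty.Spec_iff (P := @Flat)]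
    exact RingHom.flat_algebraMap_iff.2 ‹_›
  haveI : Surjective T.hom := by
    haveI : FaithfulSMul R D := (faithfulSMul_iff_algebraMap_injective R D).2 hρinj
    exact ⟨Algebra.IsIntegral.comap_surjective (R := R) (S := D)⟩
  haveI : QuasiCompact T.hom := inferInstanceAs (QuasiCompact (Spec.map ρ))
  let adj := Over.mapPullbackAdj q
  let HU : ∀ {M : Over (Spec K)}, ((Over.map q).obj M ⟶ P₁) → ((Over.map q).obj M ⟶ P₂) :=
    fun {M} x => (adj.homEquiv M P₂).symm (adj.homEquiv M P₁ x ≫ e.iso.hom)
  have hHU : ∀ {M : Over (Spec K)} (g : (Over.map q).obj M ⟶ G) (x : (Over.map q).obj M ⟶ P₁),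
      HU (smul a₁ g x) = smul a₂ g (HU x) := by
    intro M g x
    apply (adj.homEquiv M P₂).injective
    rw [homEquiv_smul]
    simp only [HU, adj, Equiv.apply_symm_apply]
    rw [homEquiv_smul]
    exact Torsor.smul_equivariant _ e.comm _ _
  have hnat : ∀ {M M' : Over (Spec K)} (y : M ⟶ M') (x : (Over.map q).obj M' ⟶ P₁),
      HU ((Over.map q).map y ≫ x) = (Over.map q).map y ≫ HU x := by
    intro M M' y x
    simp only [HU]
    rw [adj.homEquiv_naturality_left, Category.assoc, adj.homEquiv_naturality_left_symm]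
  -- the point of the first torsor and its image
  let J : Over (Spec K) := Over.mk (Spec.map φ)
  have hiρ : Spec.map ιL ≫ Spec.map ρ = Spec.map φ ≫ q := by
    rw [← Spec.map_comp, show q = Spec.map (CommRingCat.ofHom (algebraMap R (FractionRing R))) from rfl,
      ← Spec.map_comp]
    rfl
  let j : (Over.map q).obj J ⟶ T := Over.homMk (Spec.map ιL) hiρ
  let xL : (Over.map q).obj J ⟶ P₁ := Over.homMk (C.fromSpecResidueField c ≫ pullback.fst P₁.hom q) (by
    show _ = Spec.map φ ≫ q
    rw [Category.assoc, pullback.condition, hφ, Category.assoc]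
    )
  have hext : ∀ {P : Over (Spec (CommRingCat.of R))} [IsProper P.hom] (x : (Over.map q).obj J ⟶ P), ∃ s : T ⟶ P, j ≫ s = x := by
    intro P _ x
    let θ : CommRingCat.of L ⟶ CommRingCat.of (FractionRing D) :=
      CommRingCat.ofHom (FractionRing.algEquiv D L).symm.toRingEquiv.toRingHom
    have hιθ : ιL ≫ θ = CommRingCat.ofHom (algebraMap D (FractionRing D)) := by
      ext d; exact (FractionRing.algEquiv D L).symm.commutes d
    have hw : x.left ≫ P.hom = Spec.map φ ≫ q := Over.w x
    haveI : IsProper (pullback.snd P.hom T.hom) := MorphismProperty.pullback_snd (P := @IsProper) _ _ ‹_›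
    obtain ⟨σ, hσ, hσx⟩ := exists_section_dedekind D (pullback.snd P.hom T.hom)
      (Spec.map θ ≫ pullback.lift x.left (Spec.map ιL) (hw.trans hiρ.symm)) (by
        rw [Category.assoc, pullback.lift_snd, ← Spec.map_comp, hιθ])
    refine ⟨Over.homMk (σ ≫ pullback.fst P.hom T.hom) (by
      rw [Category.assoc, pullback.condition, reassoc_of% hσ]), ?_⟩
    ext : 1
    show Spec.map ιL ≫ σ ≫ pullback.fst P.hom T.hom = x.left
    haveI : IsIso θ := by
      refine (ConcreteCategory.isIso_iff_bijective θ).2 ?_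
      exact (FractionRing.algEquiv D L).symm.bijective
    rw [← cancel_epi (Spec.map θ), ← Category.assoc (Spec.map θ), ← Spec.map_comp, hιθ,
      show Spec.map (CommRingCat.ofHom (algebraMap D (FractionRing D))) = Neron.genPt D from rfl,
      reassoc_of% hσx, pullback.lift_fst]
  obtain ⟨s, hs⟩ := hext xL
  obtain ⟨t, ht⟩ := hext (HU xL)
  -- points of `T` over the generic point factor through `J`
  have hfac : ∀ {M : Over (Spec K)} (v : (Over.map q).obj M ⟶ T), ∃ w : M ⟶ J, (Over.map q).map w ≫ j = v := by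
    intro M v
    let χ : CommRingCat.of D ⟶ Γ(M.left, ⊤) := (Scheme.ΓSpecIso _).inv ≫ v.left.appTop
    have hv : M.left.toSpecΓ ≫ Spec.map χ = v.left := by
      rw [Spec.map_comp, ← Category.assoc, ← Scheme.toSpecΓ_naturality, Category.assoc]
      exact (congrArg (v.left ≫ ·) (AlgebraicGeometry.toSpecΓ_SpecMap_ΓSpecIso_inv (CommRingCat.of D))).trans (Category.comp_id _)
    let κ : K ⟶ Γ(M.left, ⊤) := (Scheme.ΓSpecIso _).inv ≫ M.hom.appTop
    have hκ : M.left.toSpecΓ ≫ Spec.map κ = M.hom := by
      rw [Spec.map_comp, ← Category.assoc, ← Scheme.toSpecΓ_naturality, Category.assoc]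
      simp
    have hw : v.left ≫ Spec.map ρ = M.hom ≫ q := Over.w v
    have hcomm : ρ ≫ χ = CommRingCat.ofHom (algebraMap R (FractionRing R)) ≫ κ := by
      simp only [χ, κ, ρ]
      rw [← Category.assoc, Scheme.ΓSpecIso_inv_naturality, Category.assoc, ← Scheme.Hom.comp_appTop,
        ← Category.assoc (CommRingCat.ofHom (algebraMap R (FractionRing R))), Scheme.ΓSpecIso_inv_naturality,
        Category.assoc, ← Scheme.Hom.comp_appTop]
      exact congrArg (fun z : M.left ⟶ Spec (CommRingCat.of R) => (Scheme.ΓSpecIso (CommRingCat.of R)).inv ≫ Scheme.Hom.appTop z) hw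
    have hunit : ∀ y : nonZeroDivisors D, IsUnit (χ.hom y) := by
      intro y
      obtain ⟨r, hr, hdvd⟩ := (Algebra.IsIntegral.isIntegral (R := R) (y : D)).isAlgebraic.exists_nonzero_dvd y.2
      refine isUnit_of_dvd_unit (map_dvd χ.hom hdvd) ?_
      have h2 : χ.hom (algebraMap R D r) = κ.hom (algebraMap R (FractionRing R) r) :=
        congrArg (fun z => z.hom r) hcomm
      rw [h2]
      exact (((map_ne_zero_iff _ (IsFractionRing.injective R (FractionRing R))).2 hr).isUnit).map κ.hom
    let χ' : CommRingCat.of L ⟶ Γ(M.left, ⊤) :=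
      CommRingCat.ofHom (IsLocalization.lift (S := L) (M := nonZeroDivisors D) hunit)
    have hχ' : ιL ≫ χ' = χ := by ext d; exact IsLocalization.lift_eq hunit d
    have hwv : M.left.toSpecΓ ≫ Spec.map χ' ≫ Spec.map ιL = v.left := by rw [← Spec.map_comp, hχ', hv]
    have hφκ : φ ≫ χ' = κ := by
      apply CommRingCat.hom_ext
      refine IsLocalization.ringHom_ext (nonZeroDivisors R) (RingHom.ext fun r => ?_)
      exact ((congrArg (fun z => z.hom (algebraMap R D r)) hχ').trans (congrArg (fun z => z.hom r) hcomm))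
    refine ⟨Over.homMk (M.left.toSpecΓ ≫ Spec.map χ') (by
      show (M.left.toSpecΓ ≫ Spec.map χ') ≫ Spec.map φ = M.hom
      rw [Category.assoc, ← Spec.map_comp, hφκ, hκ]), ?_⟩
    ext : 1
    show (M.left.toSpecΓ ≫ Spec.map χ') ≫ Spec.map ιL = v.left
    rw [Category.assoc, hwv]
  -- the translated map
  obtain ⟨δ, hδ, -⟩ := (Torsor.isPseudoTorsor_iff a₁).1 h₁.1 (T ⊗ P₁) (fst T P₁ ≫ s) (snd T P₁)
  let hT : T ⊗ P₁ ⟶ P₂ := smul a₂ δ (fst T P₁ ≫ t)
  have hgen : ∀ {M : Over (Spec K)} (v : (Over.map q).obj M ⟶ T ⊗ P₁), v ≫ hT = HU (v ≫ snd T P₁) := by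
    intro M v
    obtain ⟨w, hw⟩ := hfac (v ≫ fst T P₁)
    have e1 : v ≫ fst T P₁ ≫ t = HU (v ≫ fst T P₁ ≫ s) := by
      rw [← Category.assoc, ← Category.assoc, ← hw, Category.assoc, Category.assoc, hs, ht, hnat]
    show v ≫ smul a₂ δ (fst T P₁ ≫ t) = _
    rw [Torsor.comp_smul, e1, ← hHU, ← Torsor.comp_smul]
    exact congrArg (fun z => HU (v ≫ z)) hδ
  -- descent along the projection
  let π : T ⊗ P₁ ⟶ P₁ := snd T P₁
  haveI : Flat π.left := MorphismProperty.pullback_snd (P := @Flat) T.hom P₁.hom ‹_›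
  haveI : Surjective π.left := MorphismProperty.pullback_snd (P := @Surjective) T.hom P₁.hom ‹_›
  haveI : QuasiCompact π.left := MorphismProperty.pullback_snd (P := @QuasiCompact) T.hom P₁.hom ‹_›
  haveI : Flat (T ⊗ P₁).hom := by
    rw [← Over.w π]; infer_instance
  have hcompat : ∀ {Z : Scheme.{u}} (g₁ g₂ : Z ⟶ (T ⊗ P₁).left), g₁ ≫ π.left = g₂ ≫ π.left →
      g₁ ≫ hT.left = g₂ ≫ hT.left := by
    intro Z g₁ g₂ hg
    let W : Over (Spec (CommRingCat.of R)) := Over.mk (pullback.fst π.left π.left ≫ (T ⊗ P₁).hom)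
    haveI : Flat W.hom := inferInstanceAs (Flat (pullback.fst π.left π.left ≫ (T ⊗ P₁).hom))
    let w₁ : W ⟶ T ⊗ P₁ := Over.homMk (pullback.fst π.left π.left) rfl
    let w₂ : W ⟶ T ⊗ P₁ := Over.homMk (pullback.snd π.left π.left) (by
      show _ = pullback.fst π.left π.left ≫ (T ⊗ P₁).hom
      rw [← Over.w π, pullback.condition_assoc])
    have hp : w₁ ≫ π = w₂ ≫ π := Over.OverMorphism.ext pullback.condition
    have heq : w₁ ≫ hT = w₂ ≫ hT := by
      refine NeronGen.ext R _ _ ?_
      apply (adj.homEquiv _ _).symm.injective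
      have hc : ∀ (w : W ⟶ T ⊗ P₁), (adj.homEquiv _ _).symm ((Over.pullback q).map (w ≫ hT)) =
          (Over.map q).map ((Over.pullback q).map (w ≫ hT)) ≫ adj.counit.app P₂ :=
        fun w => adj.homEquiv_counit _ _ _
      rw [hc, hc]
      have hc' : ∀ (z : W ⟶ P₂), (Over.map q).map ((Over.pullback q).map z) ≫ adj.counit.app P₂ =
          adj.counit.app W ≫ z := fun z => adj.counit.naturality z
      rw [hc', hc', ← Category.assoc, ← Category.assoc, hgen, hgen, Category.assoc, Category.assoc]
      exact congrArg (fun z => HU (adj.counit.app W ≫ z)) hp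
    have h3 := congrArg CommaMorphism.left heq
    exact (pullback.lift_fst_assoc g₁ g₂ hg _).symm.trans
      ((congrArg (pullback.lift g₁ g₂ hg ≫ ·) h3).trans (pullback.lift_snd_assoc g₁ g₂ hg _))
  let h₀ := EffectiveEpi.desc π.left hT.left fun g₁ g₂ hg => hcompat g₁ g₂ hg
  have hfac₀ : π.left ≫ h₀ = hT.left := EffectiveEpi.fac _ _ _
  let h : P₁ ⟶ P₂ := Over.homMk h₀ (by
    rw [← cancel_epi π.left, reassoc_of% hfac₀, Over.w hT, Over.w π])
  have hπ : π ≫ h = hT := Over.OverMorphism.ext hfac₀
  have heqv : AlgGrp.Action.IsEquivariant a₁ a₂ h := by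
    let π' : T ⊗ (G ⊗ P₁) ⟶ G ⊗ P₁ := snd T (G ⊗ P₁)
    haveI : Flat π'.left := MorphismProperty.pullback_snd (P := @Flat) T.hom (G ⊗ P₁).hom ‹_›
    haveI : Surjective π'.left := MorphismProperty.pullback_snd (P := @Surjective) T.hom (G ⊗ P₁).hom ‹_›
    haveI : QuasiCompact π'.left := MorphismProperty.pullback_snd (P := @QuasiCompact) T.hom (G ⊗ P₁).hom ‹_›
    have hkey : ∀ {U : Over (Spec (CommRingCat.of R))} (tt : U ⟶ T) (g : U ⟶ G) (x : U ⟶ P₁),
        lift tt (smul a₁ g x) ≫ hT = smul a₂ g (lift tt x ≫ hT) := by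
      intro U tt g x
      simp only [hT, Torsor.comp_smul]
      rw [← Torsor.mul_smul, ← Category.assoc, lift_fst, ← Category.assoc (lift tt x), lift_fst]
      congr 1
      obtain ⟨d, -, hu⟩ := (Torsor.isPseudoTorsor_iff a₁).1 h₁.1 U (tt ≫ s) (smul a₁ g x)
      have k1 : smul a₁ (lift tt (smul a₁ g x) ≫ δ) (tt ≫ s) = smul a₁ g x := by
        have h' := lift tt (smul a₁ g x) ≫= hδ
        rwa [Torsor.comp_smul, lift_fst_assoc, lift_snd] at h'
      have k2 : smul a₁ (g * (lift tt x ≫ δ)) (tt ≫ s) = smul a₁ g x := by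
        have h' := lift tt x ≫= hδ
        rw [Torsor.comp_smul, lift_fst_assoc, lift_snd] at h'
        rw [Torsor.mul_smul, h']
      exact (hu _ k1).trans (hu _ k2).symm
    have hpi : ∀ {U : Over (Spec (CommRingCat.of R))} (tt : U ⟶ T) (x : U ⟶ P₁), lift tt x ≫ hT = x ≫ h := by
      intro U tt x
      rw [← hπ, lift_snd_assoc]
    have h5 := hkey (fst T (G ⊗ P₁)) (π' ≫ fst G P₁) (π' ≫ snd G P₁)
    rw [hpi, hpi] at h5
    have e2 : smul a₁ (π' ≫ fst G P₁) (π' ≫ snd G P₁) = π' ≫ a₁.act := by
      rw [← Torsor.comp_smul, Torsor.smul, lift_fst_snd, Category.id_comp]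
    have e3 : smul a₂ (π' ≫ fst G P₁) ((π' ≫ snd G P₁) ≫ h) = π' ≫ (G ◁ h) ≫ a₂.act := by
      rw [Category.assoc, ← Torsor.comp_smul, Torsor.smul]
      congr 2
      all_goals (apply CartesianMonoidalCategory.hom_ext <;> simp)
    rw [e2, e3, Category.assoc] at h5
    show a₁.act ≫ h = (G ◁ h) ≫ a₂.act
    ext : 1
    exact (cancel_epi π'.left).1 (congrArg CommaMorphism.left h5)
  haveI : IsIso h := Torsor.isIso_of_isEquivariant (fpqc_of_fppf h₁) h₂.1 h heqv
  exact ⟨⟨asIso h, heqv⟩⟩

/-- Restriction to the generic point is injective on torsor classes. -/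
theorem bcMap_genPt_injective (R : Type u) [CommRing R] [IsDedekindDomain R]
    (G : Over (Spec (CommRingCat.of R))) [GrpObj G] [IsProper G.hom] [Flat G.hom] :
    Function.Injective (NonAbH1.H1Sch.bcMap (Neron.genPt R) G Scheme.fppfPrecoverage) := by
  intro c c' h
  obtain ⟨T, rfl⟩ := Quot.exists_rep c
  obtain ⟨T', rfl⟩ := Quot.exists_rep c'
  obtain ⟨e⟩ := exists_iso_of_cl_eq (T := T.bc (Neron.genPt R)) (T' := T'.bc (Neron.genPt R)) h
  obtain ⟨e'⟩ := exists_iso_of_generic T.act T'.act T.isTorsor T'.isTorsor e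
  exact Quot.sound ⟨e'⟩

end Groth.Agent.FinSect
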