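import Groth.Agent.FinSect.Torsor
import Groth.Agent.TorsorInfin.Basic
import Groth.Agent.GrpBasic.Cartier
import Mathlib.LinearAlgebra.Eigenspace.Zero
import Mathlib.FieldTheory.IsAlgClosed.AlgebraicClosure

/-!
# Torsors under finite connected groups become trivial after a bounded Frobenius twist
-/

universe u

open CategoryTheory CategoryTheory.Limits MonoidalCategory CartesianMonoidalCategory MonObj AlgebraicGeometry
open scoped TensorProduct

set_option backward.isDefEq.respectTransparency false
set_option backward.isDefEq.respectTransparency.types false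

noncomputable section

namespace Groth.Agent.FinSect

variable {K : Type u} [Field K]

theorem finrank_mul_eq (A B C D : Type u) [CommRing A] [CommRing B] [CommRing C] [CommRing D]
    [Algebra K A] [Algebra K B] [Algebra K C] [Algebra K D]
    (e : pullback (Spec.map (CommRingCat.ofHom (algebraMap K A))) (Spec.map (CommRingCat.ofHom (algebraMap K B))) ≅
      pullback (Spec.map (CommRingCat.ofHom (algebraMap K C))) (Spec.map (CommRingCat.ofHom (algebraMap K D))))
    (he : e.hom ≫ pullback.fst _ _ ≫ Spec.map (CommRingCat.ofHom (algebraMap K C)) =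
      pullback.fst _ _ ≫ Spec.map (CommRingCat.ofHom (algebraMap K A))) :
    Module.finrank K A * Module.finrank K B = Module.finrank K C * Module.finrank K D := by
  let i := (pullbackSpecIso K A B).symm ≪≫ e ≪≫ pullbackSpecIso K C D
  let ψ := Spec.preimage i.hom
  let ψ' := Spec.preimage i.inv
  have h1 : ψ ≫ ψ' = 𝟙 _ := Spec.map_injective (by
    rw [Spec.map_comp, Spec.map_preimage, Spec.map_preimage, i.inv_hom_id, Spec.map_id])
  have h2 : ψ' ≫ ψ = 𝟙 _ := Spec.map_injective (by
    rw [Spec.map_comp, Spec.map_preimage, Spec.map_preimage, i.hom_inv_id, Spec.map_id])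
  have hψ : CommRingCat.ofHom (algebraMap K (C ⊗[K] D)) ≫ ψ = CommRingCat.ofHom (algebraMap K (A ⊗[K] B)) := by
    apply Spec.map_injective
    rw [Spec.map_comp, Spec.map_preimage]
    simp only [i, Iso.trans_hom, Iso.symm_hom, Category.assoc]
    rw [pullbackSpecIso_hom_base, he, ← pullbackSpecIso_hom_base, Iso.inv_hom_id_assoc]
  let f : (C ⊗[K] D) ≃ₐ[K] (A ⊗[K] B) := AlgEquiv.ofBijective
    { ψ.hom with commutes' := fun r => congrArg (fun t => t.hom r) hψ }
    ⟨fun x y hxy => by
      have := congrArg ψ'.hom hxy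
      exact (congrArg (fun t => t.hom x) h1).symm.trans (this.trans (congrArg (fun t => t.hom y) h1)),
     fun y => ⟨ψ'.hom y, congrArg (fun t => t.hom y) h2⟩⟩
  rw [← Module.finrank_tensorProduct (R := K) (S := K), ← Module.finrank_tensorProduct (R := K) (S := K)]
  exact f.symm.toLinearEquiv.finrank_eq

/-- powers of elements all of whose geometric values coincide are constants -/
theorem pow_mem_range (A : Type u) [CommRing A] [Algebra K A] [Module.Finite K A] [Nontrivial A]
    (p : ℕ) [ExpChar K p] (n : ℕ) (hn : Module.finrank K A ≤ p ^ n)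
    (huniq : ∀ f g : A →ₐ[K] AlgebraicClosure K, f = g) (a : A) :
    a ^ p ^ n ∈ Set.range (algebraMap K A) := by
  let Ω := AlgebraicClosure K
  let B := Ω ⊗[K] A
  haveI : Module.Finite Ω B := Module.Finite.base_change K Ω A
  haveI : Nontrivial B := nontrivial_of_ne 1 0 fun h => one_ne_zero (α := A)
    (Algebra.TensorProduct.includeRight_injective (A := Ω) (algebraMap K Ω).injective (by simpa using h))
  obtain ⟨m, hm⟩ := Ideal.exists_maximal B
  have hbij : ∀ (P : Ideal B) [P.IsMaximal], Function.Bijective (algebraMap Ω (B ⧸ P)) := fun P _ => by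
    letI := Ideal.Quotient.field P
    exact IsAlgClosed.algebraMap_bijective_of_isIntegral
  let val : ∀ (P : Ideal B) [P.IsMaximal], A →ₐ[K] Ω := fun P _ =>
    (((AlgEquiv.ofBijective (Algebra.ofId Ω (B ⧸ P)) (hbij P)).symm.toAlgHom.comp
      (Ideal.Quotient.mkₐ Ω P)).restrictScalars K).comp Algebra.TensorProduct.includeRight
  let c := val m a
  let b : B := (1 : Ω) ⊗ₜ[K] a - algebraMap Ω B c
  have hb : IsNilpotent b := nilpotent_iff_mem_prime.2 fun P hP => by
    haveI : IsArtinianRing B := IsArtinianRing.of_finite Ω B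
    haveI := IsArtinianRing.isMaximal_of_isPrime P
    have e : algebraMap Ω (B ⧸ P) (val P a) = Ideal.Quotient.mk P ((1 : Ω) ⊗ₜ[K] a) :=
      (AlgEquiv.ofBijective (Algebra.ofId Ω (B ⧸ P)) (hbij P)).apply_symm_apply _
    rw [← Ideal.Quotient.eq_zero_iff_mem]
    show Ideal.Quotient.mk P ((1 : Ω) ⊗ₜ[K] a - algebraMap Ω B c) = 0
    rw [map_sub, ← e, show c = val P a from congrArg (fun f => f a) (huniq _ _)]
    exact sub_self _
  have hbd : b ^ p ^ n = 0 := by
    have h1 := (LinearMap.charpoly_nilpotent_tfae (Algebra.lmul Ω B b)).out 0 1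
    have h2 : (Algebra.lmul Ω B b).charpoly = Polynomial.X ^ Module.finrank Ω B := h1.1 (hb.map _)
    have h3 := (Algebra.lmul Ω B b).aeval_self_charpoly
    rw [h2, map_pow, Polynomial.aeval_X, ← map_pow] at h3
    have h4 : b ^ Module.finrank Ω B = 0 := by
      have := LinearMap.congr_fun h3 1
      simpa using this
    rw [Module.finrank_baseChange] at h4
    exact pow_eq_zero_of_le hn h4
  haveI : ExpChar B p := expChar_of_injective_algebraMap (algebraMap K B).injective p
  rw [sub_pow_expChar_pow, Algebra.TensorProduct.tmul_pow, one_pow, ← map_pow, sub_eq_zero,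
    Algebra.TensorProduct.algebraMap_apply, Algebra.algebraMap_self_apply] at hbd
  obtain ⟨f, hf⟩ := LinearMap.exists_leftInverse_of_injective
    ((Algebra.linearMap K A)) (LinearMap.ker_eq_bot.2 (algebraMap K A).injective)
  have h5 := congrArg (fun z => TensorProduct.rid K Ω (f.lTensor Ω z)) hbd
  simp only [LinearMap.lTensor_tmul, TensorProduct.rid_tmul] at h5
  rw [show f 1 = 1 by simpa using LinearMap.congr_fun hf 1, one_smul, Algebra.smul_def, _root_.mul_one] at h5
  refine ⟨f (a ^ p ^ n), Algebra.TensorProduct.includeRight_injective (A := Ω) (algebraMap K Ω).injective ?_⟩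
  rw [AlgHom.commutes, Algebra.TensorProduct.algebraMap_apply, h5, Algebra.TensorProduct.includeRight_apply]
  exact hbd.symm

theorem isoSpec_hom_map {Y : Over (Spec (CommRingCat.of K))} [IsAffine Y.left] :
    Y.left.isoSpec.hom ≫ Spec.map (Spec.preimage (Y.left.isoSpec.inv ≫ Y.hom)) = Y.hom := by
  rw [Spec.map_preimage, Iso.hom_inv_id_assoc]

/-- a finite connected group over a field of characteristic zero is trivial -/
theorem isIso_of_charZero [CharZero K] (G : Over (Spec (CommRingCat.of K))) [GrpObj G] [IsFinite G.hom]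
    [ConnectedSpace G.left] : IsIso G.hom := by
  haveI : GrpObj (Over.mk G.hom) := ‹GrpObj G›
  haveI := TorsorInfin.discrete_of_finite K G.hom
  haveI : Subsingleton G.left := PreconnectedSpace.trivial_of_discrete
  haveI : ∀ x : G.left, _root_.IsReduced (G.left.presheaf.stalk x) := fun x => by
    rw [Subsingleton.elim x (Cartier.unitPt G.hom)]
    exact Cartier.isReduced_stalk_unitPt G.hom
  haveI : IsReduced G.left := isReduced_of_isReduced_stalk G.left
  have he : η[G].left ≫ G.hom = 𝟙 _ := Over.w η[G]
  haveI : IsClosedImmersion η[G].left := by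
    haveI : IsClosedImmersion (η[G].left ≫ G.hom) := by rw [he]; exact inferInstanceAs (IsClosedImmersion (𝟙 _))
    exact IsClosedImmersion.of_comp η[G].left G.hom
  haveI : Surjective η[G].left := ⟨fun z => ⟨IsLocalRing.closedPoint K, Subsingleton.elim _ _⟩⟩
  haveI : IsIso η[G].left := isIso_of_isClosedImmersion_of_surjective _
  exact IsIso.of_isIso_fac_left he

theorem exists_section_iterateFrobenius (p : ℕ) [ExpChar K p] (G : Over (Spec (CommRingCat.of K))) [GrpObj G]
    [IsFinite G.hom] [ConnectedSpace G.left] :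
    ∃ n : ℕ, ∀ (X : Over (Spec (CommRingCat.of K))) (a : AlgGrp.Action G X),
      NonAbH1.IsTorsorFor Scheme.fppfPrecoverage a →
        NonAbH1.HasSectionOver X (Spec.map (CommRingCat.ofHom (iterateFrobenius K p n))) := by
  haveI : IsAffine G.left := isAffine_of_isAffineHom G.hom
  let bG := Spec.preimage (G.left.isoSpec.inv ≫ G.hom)
  letI : Algebra K Γ(G.left, ⊤) := bG.hom.toAlgebra
  obtain ⟨n, hn⟩ : ∃ n : ℕ, Module.finrank K Γ(G.left, ⊤) ≤ p ^ n := by
    obtain ⟨rfl, h0⟩ | hp : (p = 1 ∧ CharZero K) ∨ p.Prime := by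
      cases ‹ExpChar K p› with
      | zero => exact Or.inl ⟨rfl, inferInstance⟩
      | prime hp => exact Or.inr hp
    · haveI := isIso_of_charZero G
      haveI : IsIso (Spec.map bG) := by rw [Spec.map_preimage]; infer_instance
      refine ⟨0, ?_⟩
      have hb : Function.Surjective (algebraMap K Γ(G.left, ⊤)) := fun y => by
        let ψ := Spec.preimage (inv (Spec.map bG))
        have hψ : ψ ≫ bG = 𝟙 _ := Spec.map_injective (by
          rw [Spec.map_comp, Spec.map_preimage (inv (Spec.map bG)), IsIso.hom_inv_id, Spec.map_id])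
        exact ⟨ψ.hom y, congrArg (fun t => t.hom y) hψ⟩
      have := LinearMap.finrank_range_le (Algebra.linearMap K Γ(G.left, ⊤))
      rw [LinearMap.range_eq_top.2 hb, finrank_top, Module.finrank_self] at this
      simpa using this
    · exact ⟨Module.finrank K Γ(G.left, ⊤), (Nat.lt_pow_self hp.one_lt).le⟩
  refine ⟨n, fun X a ha => ?_⟩
  haveI : IsFinite X.hom := isFinite_torsor ha
  haveI : Surjective X.hom := Torsor.surjective_of_isTorsorFor (fpqc_of_fppf ha)
  haveI : IsAffine X.left := isAffine_of_isAffineHom X.hom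
  haveI : Nontrivial Γ(X.left, ⊤) := by
    obtain ⟨x, -⟩ := X.hom.surjective (IsLocalRing.closedPoint K)
    exact PrimeSpectrum.nontrivial (X.left.isoSpec.hom.base x)
  let bX := Spec.preimage (X.left.isoSpec.inv ≫ X.hom)
  haveI : IsFinite (Spec.map bX) := by rw [Spec.map_preimage]; infer_instance
  letI : Algebra K Γ(X.left, ⊤) := bX.hom.toAlgebra
  haveI : Module.Finite K Γ(X.left, ⊤) := (IsFinite.SpecMap_iff bX).1 inferInstance
  have hd : Module.finrank K Γ(X.left, ⊤) = Module.finrank K Γ(G.left, ⊤) := by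
    haveI : IsIso (lift a.act (snd G X)) := ha.1
    let s := (Over.forget _).mapIso (asIso (lift a.act (snd G X)))
    let mG : pullback G.hom X.hom ≅ pullback (Spec.map bG) (Spec.map bX) :=
      asIso (pullback.map G.hom X.hom (Spec.map bG) (Spec.map bX) G.left.isoSpec.hom X.left.isoSpec.hom (𝟙 _)
        (by rw [Category.comp_id, isoSpec_hom_map]) (by rw [Category.comp_id, isoSpec_hom_map]))
    let mX : pullback X.hom X.hom ≅ pullback (Spec.map bX) (Spec.map bX) :=
      asIso (pullback.map X.hom X.hom (Spec.map bX) (Spec.map bX) X.left.isoSpec.hom X.left.isoSpec.hom (𝟙 _)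
        (by rw [Category.comp_id, isoSpec_hom_map]) (by rw [Category.comp_id, isoSpec_hom_map]))
    have := finrank_mul_eq Γ(G.left, ⊤) Γ(X.left, ⊤) Γ(X.left, ⊤) Γ(X.left, ⊤) (mG.symm ≪≫ s ≪≫ mX) (by
      show (mG.inv ≫ (lift a.act (snd G X)).left ≫ mX.hom) ≫ pullback.fst _ _ ≫ Spec.map bX =
        pullback.fst _ _ ≫ Spec.map bG
      simp only [Category.assoc]
      rw [Iso.inv_comp_eq]
      simp only [mG, mX, asIso_hom, pullback.lift_fst_assoc, Category.assoc, pullback.map, bX, bG,
        Spec.map_preimage, Iso.hom_inv_id_assoc]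
      exact Over.w (lift a.act (snd G X)))
    exact (Nat.eq_of_mul_eq_mul_right Module.finrank_pos this).symm
  have huniq : ∀ f g : Γ(X.left, ⊤) →ₐ[K] AlgebraicClosure K, f = g := fun f g => by
    have hh : ∀ h : Γ(X.left, ⊤) →ₐ[K] AlgebraicClosure K,
        (Spec.map (CommRingCat.ofHom h.toRingHom) ≫ X.left.isoSpec.inv) ≫ X.hom =
          Spec.map (CommRingCat.ofHom (algebraMap K (AlgebraicClosure K))) := fun h => by
      rw [Category.assoc, ← Spec.map_preimage (X.left.isoSpec.inv ≫ X.hom), ← Spec.map_comp]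
      exact congrArg (fun t => Spec.map (CommRingCat.ofHom t)) h.comp_algebraMap
    have key := TorsorInfin.point_unique ha.1 (AlgebraicClosure K) _ _ ((hh f).trans (hh g).symm)
    rw [cancel_mono] at key
    exact AlgHom.coe_ringHom_injective (congrArg CommRingCat.Hom.hom (Spec.map_injective key))
  haveI : ExpChar Γ(X.left, ⊤) p := expChar_of_injective_algebraMap (algebraMap K _).injective p
  have hr := pow_mem_range Γ(X.left, ⊤) p n (hd ▸ hn) huniq
  choose v hv using hr
  let φ : Γ(X.left, ⊤) →+* K :=
    { toFun := v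
      map_one' := (algebraMap K Γ(X.left, ⊤)).injective (by rw [hv, one_pow, map_one])
      map_mul' := fun x y => (algebraMap K Γ(X.left, ⊤)).injective (by rw [map_mul, hv, hv, hv, mul_pow])
      map_zero' := (algebraMap K Γ(X.left, ⊤)).injective (by
        rw [hv, map_zero, zero_pow (pow_ne_zero _ (expChar_pos K p).ne')])
      map_add' := fun x y => (algebraMap K Γ(X.left, ⊤)).injective (by
        rw [map_add, hv, hv, hv, add_pow_expChar_pow]) }
  refine ⟨Spec.map (CommRingCat.ofHom φ) ≫ X.left.isoSpec.inv, ?_⟩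
  rw [Category.assoc, ← Spec.map_preimage (X.left.isoSpec.inv ≫ X.hom), ← Spec.map_comp]
  congr 1
  refine CommRingCat.hom_ext (RingHom.ext fun r => (algebraMap K Γ(X.left, ⊤)).injective ?_)
  show algebraMap K _ (v (algebraMap K Γ(X.left, ⊤) r)) = algebraMap K _ (iterateFrobenius K p n r)
  rw [hv, iterateFrobenius_def, map_pow]

end Groth.Agent.FinSect
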