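import Groth.Agent.FinSect.Torsor
import Groth.Agent.AzLoc.Cover
import Groth.Agent.PtsDense.Basic
import Groth.Agent.Hensel.Smooth
import Mathlib.RingTheory.Henselian
import Groth.Agent.Hensel.Local
import Mathlib.RingTheory.Idempotents
import Mathlib.FieldTheory.IsSepClosed
import Mathlib.AlgebraicGeometry.Morphisms.LocalFlatDescent

/-!
# Smooth surjective schemes over a finite scheme have sections etale locally on the base
-/

universe u

open CategoryTheory CategoryTheory.Limits AlgebraicGeometry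
open scoped TensorProduct

set_option backward.isDefEq.respectTransparency false
set_option backward.isDefEq.respectTransparency.types false

noncomputable section

namespace Groth.Agent.FinSect.SmoothTriv

/-- smooth surjections onto strictly henselian local schemes have sections -/
theorem exists_section_smooth (R : Type u) [CommRing R] [HenselianLocalRing R]
    [IsSepClosed (IsLocalRing.ResidueField R)] {U : Scheme.{u}} (f : U ⟶ Spec (CommRingCat.of R)) [Smooth f]
    [Surjective f] : ∃ σ : Spec (CommRingCat.of R) ⟶ U, σ ≫ f = 𝟙 _ := by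
  let κ := IsLocalRing.ResidueField R
  let res : Spec (CommRingCat.of κ) ⟶ Spec (CommRingCat.of R) :=
    Spec.map (CommRingCat.ofHom (IsLocalRing.residue R))
  haveI : Smooth (pullback.snd f res) := MorphismProperty.pullback_snd (P := @Smooth) _ _ ‹_›
  haveI : Nonempty ↥(Spec (CommRingCat.of κ)) := inferInstanceAs (Nonempty (PrimeSpectrum κ))
  haveI : Surjective (pullback.snd f res) := MorphismProperty.pullback_snd (P := @Surjective) _ _ ‹_›
  haveI : Nonempty ↥(pullback f res) :=
    ⟨((pullback.snd f res).surjective (Classical.arbitrary _)).choose⟩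
  obtain ⟨-, s, hs, -⟩ := (Groth.Agent.PtsDense.dense_rational κ (pullback.snd f res)).nonempty
  let t : Spec (CommRingCat.of κ) ⟶ U := s ≫ pullback.fst f res
  have ht : t ≫ f = res := by
    simp only [t, Category.assoc, pullback.condition]
    rw [← Category.assoc, hs, Category.id_comp]
  let x := t (IsLocalRing.closedPoint κ)
  obtain ⟨D, hD, hx, -⟩ := exists_isAffineOpen_mem_and_subset (show x ∈ (⊤ : U.Opens) from trivial)
  have hr : Set.range t ⊆ Set.range hD.fromSpec := by
    rintro - ⟨q, rfl⟩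
    rw [hD.range_fromSpec, Subsingleton.elim (α := PrimeSpectrum κ) q (IsLocalRing.closedPoint κ)]
    exact hx
  let t' := IsOpenImmersion.lift hD.fromSpec t hr
  let φ := Spec.preimage (hD.fromSpec ≫ f)
  let ψ := Spec.preimage t'
  haveI : Smooth (Spec.map φ) := by
    rw [Spec.map_preimage]
    infer_instance
  have hφ : φ.hom.Smooth := (HasRingHomProperty.Spec_iff (P := @Smooth)).1 inferInstance
  have hψ : φ ≫ ψ = CommRingCat.ofHom (IsLocalRing.residue R) := Spec.map_injective (by
    rw [Spec.map_comp, Spec.map_preimage, Spec.map_preimage, ← Category.assoc, IsOpenImmersion.lift_fac]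
    exact ht)
  letI : Algebra R Γ(U, D) := φ.hom.toAlgebra
  haveI : Algebra.Smooth R Γ(U, D) := hφ
  haveI : HenselianRing R (IsLocalRing.maximalIdeal R) := inferInstance
  let σ₀ : Γ(U, D) →ₐ[R] R ⧸ IsLocalRing.maximalIdeal R :=
    { (show (Γ(U, D) : Type u) →+* κ from ψ.hom) with
      commutes' := fun r => congrArg (fun g : CommRingCat.of R ⟶ CommRingCat.of κ => g.hom r) hψ }
  obtain ⟨τ, -⟩ := Groth.Agent.Hensel.exists_smooth_lift Γ(U, D) σ₀
  refine ⟨Spec.map (CommRingCat.ofHom τ.toRingHom) ≫ hD.fromSpec, ?_⟩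
  rw [Category.assoc, ← Spec.map_preimage (hD.fromSpec ≫ f), ← Spec.map_comp, ← Spec.map_id]
  congr 1
  exact CommRingCat.hom_ext (RingHom.ext fun r => τ.commutes r)


/-- a smooth surjective algebra over a strictly henselian local ring which is an algebra over `B` -/
theorem exists_hom_local {B C : CommRingCat.{u}} (c : B ⟶ C) [Smooth (Spec.map c)] [Surjective (Spec.map c)]
    (R : Type u) [CommRing R] [HenselianLocalRing R] [IsSepClosed (IsLocalRing.ResidueField R)] (b : B →+* R) :
    ∃ φ : C →+* R, φ.comp c.hom = b := by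
  let fb := Spec.map (CommRingCat.ofHom b)
  haveI : Smooth (pullback.snd (Spec.map c) fb) := MorphismProperty.pullback_snd (P := @Smooth) _ _ ‹_›
  haveI : Surjective (pullback.snd (Spec.map c) fb) := MorphismProperty.pullback_snd (P := @Surjective) _ _ ‹_›
  obtain ⟨σ, hσ⟩ := exists_section_smooth R (pullback.snd (Spec.map c) fb)
  refine ⟨(Spec.preimage (σ ≫ pullback.fst _ _)).hom, ?_⟩
  have h : c ≫ Spec.preimage (σ ≫ pullback.fst (Spec.map c) fb) = CommRingCat.ofHom b := Spec.map_injective (by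
    rw [Spec.map_comp, Spec.map_preimage, Category.assoc, pullback.condition, reassoc_of% hσ])
  exact congrArg CommRingCat.Hom.hom h

theorem isLocalHom_of_finite (T R : Type u) [CommRing T] [IsLocalRing T] [CommRing R] [IsLocalRing R]
    [Algebra T R] [Module.Finite T R] : IsLocalHom (algebraMap T R) := by
  refine ((IsLocalRing.local_hom_TFAE (algebraMap T R)).out 0 4).2 ?_
  exact IsLocalRing.eq_maximalIdeal (Ideal.isMaximal_comap_of_isIntegral_of_isMaximal _)

theorem exists_hom_finite {B C : CommRingCat.{u}} (c : B ⟶ C) [Smooth (Spec.map c)] [Surjective (Spec.map c)]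
    (T : Type u) [CommRing T] [HenselianLocalRing T] [IsSepClosed (IsLocalRing.ResidueField T)]
    (W : Type u) [CommRing W] [Algebra T W] [Module.Finite T W] (b : B →+* W) :
    ∃ φ : C →+* W, φ.comp c.hom = b := by
  obtain ⟨κ, _, e, he, hloc⟩ := Groth.Agent.Hensel.exists_pi_local T W
  have key : ∀ i, ∃ φ : C →+* W ⧸ Ideal.span {1 - e i}, φ.comp c.hom = (Ideal.Quotient.mk _).comp b := fun i => by
    haveI := hloc i
    haveI := Groth.Agent.Hensel.henselianLocalRing_finite T (W ⧸ Ideal.span {1 - e i})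
    haveI := isLocalHom_of_finite T (W ⧸ Ideal.span {1 - e i})
    haveI : Module.Finite (IsLocalRing.ResidueField T) (IsLocalRing.ResidueField (W ⧸ Ideal.span {1 - e i})) :=
      Module.Finite.of_restrictScalars_finite T _ _
    haveI : IsSepClosed (IsLocalRing.ResidueField (W ⧸ Ideal.span {1 - e i})) :=
      Algebra.IsAlgebraic.isSepClosed (F := IsLocalRing.ResidueField T)
    exact exists_hom_local c _ _
  choose φ hφ using key
  let eqv := RingEquiv.ofBijective _ he.bijective_pi
  refine ⟨eqv.symm.toRingHom.comp (RingHom.pi φ), RingHom.ext fun x => ?_⟩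
  show eqv.symm (RingHom.pi φ (c.hom x)) = b x
  rw [RingEquiv.symm_apply_eq]
  funext i
  exact RingHom.congr_fun (hφ i) x

section Descend

variable (A B : Type u) [CommRing A] [CommRing B] [Algebra A B] [Module.Finite A B]
  (C : Type u) [CommRing C] [Algebra B C] [Algebra.FinitePresentation B C]
  [Smooth (Spec.map (CommRingCat.ofHom (algebraMap B C)))]
  [Surjective (Spec.map (CommRingCat.ofHom (algebraMap B C)))]

theorem exists_hom_cover : ∃ (E : Type u) (_ : CommRing E) (_ : Algebra A E), Algebra.Etale A E ∧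
    Module.FaithfullyFlat A E ∧ ∃ φ : C →+* E ⊗[A] B,
      φ.comp (algebraMap B C) = (Algebra.TensorProduct.includeRight : B →ₐ[A] E ⊗[A] B).toRingHom := by
  classical
  refine Groth.Agent.AzLoc.exists_cover (fun E _ _ => ∃ φ : C →+* E ⊗[A] B,
      φ.comp (algebraMap B C) = (Algebra.TensorProduct.includeRight : B →ₐ[A] E ⊗[A] B).toRingHom) ?_ ?_
  · intro p T _ _ _ hsc _ hcol
    haveI := hsc
    obtain ⟨φ, hφ⟩ := exists_hom_finite (CommRingCat.ofHom (algebraMap B C)) T (T ⊗[A] B)
      (Algebra.TensorProduct.includeRight : B →ₐ[A] T ⊗[A] B).toRingHom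
    obtain ⟨n, π, hπ, hker⟩ := Algebra.FinitePresentation.out (R := B) (A := C)
    obtain ⟨g, hg⟩ := hker
    obtain ⟨E, _, _, χ, -, y, het, -, hy⟩ := AzLoc.exists_lift_tensor hcol n A (Algebra.ofId A T)
      (fun j => φ (π (MvPolynomial.X j)))
    haveI := het
    let ev : ∀ (F : Type u) [CommRing F] [Algebra A F], (Fin n → F ⊗[A] B) → MvPolynomial (Fin n) B →+* F ⊗[A] B :=
      fun F _ _ v => MvPolynomial.eval₂Hom (Algebra.TensorProduct.includeRight : B →ₐ[A] F ⊗[A] B).toRingHom v
    have hnat : ∀ {F F' : Type u} [CommRing F] [Algebra A F] [CommRing F'] [Algebra A F'] (k : F →ₐ[A] F')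
        (v : Fin n → F ⊗[A] B) (q : MvPolynomial (Fin n) B),
        Algebra.TensorProduct.map k (AlgHom.id A B) (ev F v q) =
          ev F' (fun j => Algebra.TensorProduct.map k (AlgHom.id A B) (v j)) q := by
      intro F F' _ _ _ _ k v q
      refine RingHom.congr_fun (f := (Algebra.TensorProduct.map k (AlgHom.id A B)).toRingHom.comp (ev F v))
        (MvPolynomial.ringHom_ext (fun r => ?_) fun j => ?_) q <;> simp [ev]
    have hlin : ∀ {F F' : Type u} [CommRing F] [Algebra A F] [CommRing F'] [Algebra A F'] (k : F →ₐ[A] F')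
        (x : F ⊗[A] B), k.toLinearMap.rTensor B x = Algebra.TensorProduct.map k (AlgHom.id A B) x := by
      intro F F' _ _ _ _ k x
      induction x using TensorProduct.induction_on with
      | zero => simp
      | add p q hp hq => simp only [map_add, hp, hq]
      | tmul p q => simp
    have hz : ∀ q : g, χ.toLinearMap.rTensor B (ev E y q.1) = 0 := fun q => by
      rw [hlin, hnat]
      have hev : ev T (fun j => Algebra.TensorProduct.map χ (AlgHom.id A B) (y j)) = φ.comp π.toRingHom := by
        refine MvPolynomial.ringHom_ext (fun r => ?_) fun j => ?_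
        · have h1 : π (MvPolynomial.C r) = algebraMap B C r := π.commutes r
          simp only [ev, MvPolynomial.eval₂Hom_C, RingHom.comp_apply, AlgHom.toRingHom_eq_coe, RingHom.coe_coe, h1]
          exact (RingHom.congr_fun hφ r).symm
        · simp only [ev, MvPolynomial.eval₂Hom_X', RingHom.comp_apply, AlgHom.toRingHom_eq_coe, RingHom.coe_coe]
          rw [← hlin, hy]
      rw [hev]
      have hq : q.1 ∈ RingHom.ker π.toRingHom := hg ▸ Submodule.subset_span q.2
      rw [RingHom.comp_apply, show π.toRingHom q.1 = 0 from hq, map_zero]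
    obtain ⟨E', _, _, χ', f, het', -, hv⟩ := AzLoc.exists_vanish_family' hcol E χ (fun q : g => ev E y q.1) hz
    refine ⟨E', inferInstance, inferInstance, χ', het', ?_⟩
    let y' := fun j => Algebra.TensorProduct.map f (AlgHom.id A B) (y j)
    have hker' : RingHom.ker π.toRingHom ≤ RingHom.ker (ev E' y') := by
      rw [← hg, Ideal.span_le]
      intro q hq
      show ev E' y' q = 0
      rw [← hnat, ← hlin]
      exact hv ⟨q, hq⟩
    refine ⟨RingHom.liftOfSurjective π.toRingHom hπ ⟨ev E' y', hker'⟩, RingHom.ext fun r => ?_⟩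
    rw [RingHom.comp_apply, ← π.commutes r]
    show RingHom.liftOfSurjective π.toRingHom hπ ⟨ev E' y', hker'⟩ (π.toRingHom (MvPolynomial.C r)) = _
    rw [RingHom.liftOfRightInverse_comp_apply]
    exact MvPolynomial.eval₂Hom_C _ _ r
  · intro k E _ _ h
    choose φ hφ using h
    let Ψ : (Π i, E i) ⊗[A] B →+* Π i, E i ⊗[A] B :=
      RingHom.pi fun i => (Algebra.TensorProduct.map (Pi.evalAlgHom A E i) (AlgHom.id A B)).toRingHom
    have hcoord : ∀ (i : Fin k) (x : (Π i, E i) ⊗[A] B), Ψ x i = (Pi.evalAlgHom A E i).toLinearMap.rTensor B x := by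
      intro i x
      induction x using TensorProduct.induction_on with
      | zero => simp
      | add p q hp hq => simp only [map_add, Pi.add_apply, hp, hq]
      | tmul p q => simp [Ψ]
    have hbij : Function.Bijective Ψ :=
      ⟨fun x x' hx => AzLoc.proj_ext E B fun i => by rw [← hcoord, ← hcoord, hx],
        fun y => ⟨AzLoc.glue E B y, funext fun i => by rw [hcoord, AzLoc.proj_glue]⟩⟩
    let eqv := RingEquiv.ofBijective Ψ hbij
    refine ⟨eqv.symm.toRingHom.comp (RingHom.pi φ), RingHom.ext fun x => ?_⟩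
    show eqv.symm (RingHom.pi φ (algebraMap B C x)) = _
    rw [RingEquiv.symm_apply_eq]
    funext i
    refine (RingHom.congr_fun (hφ i) x).trans ?_
    simp [eqv, Ψ]

end Descend

/-- An affine scheme smooth and surjective over `W`'s base mapping to `W`. -/
theorem exists_affine_cover {B : CommRingCat.{u}} {W : Scheme.{u}} (q : W ⟶ Spec B) [Smooth q] [Surjective q] :
    ∃ (C : CommRingCat.{u}) (c : B ⟶ C) (h : Spec C ⟶ W),
      h ≫ q = Spec.map c ∧ Smooth (Spec.map c) ∧ Surjective (Spec.map c) := by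
  classical
  let 𝒲 := W.affineCover
  obtain ⟨t, ht⟩ := (isCompact_univ (X := Spec B)).elim_finite_subcover
    (fun i => Set.range (𝒲.f i ≫ q)) (fun i => (𝒲.f i ≫ q).isOpenMap.isOpen_range) (fun x _ => by
      obtain ⟨w, rfl⟩ := q.surjective x
      obtain ⟨i, z, rfl⟩ := Scheme.Cover.exists_eq 𝒲 w
      exact Set.mem_iUnion.2 ⟨i, z, by simp⟩)
  obtain ⟨m, ⟨e⟩⟩ := Finite.exists_equiv_fin t
  let D : ULift.{u} (Fin m) → Scheme.{u} := fun j => 𝒲.X (e.symm j.down).1
  let Z := ∐ D
  let h₀ : Z ⟶ W := Sigma.desc fun j => 𝒲.f (e.symm j.down).1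
  haveI : Smooth h₀ := IsZariskiLocalAtSource.sigmaDesc (fun j => inferInstance)
  haveI : IsAffine Z := inferInstanceAs (IsAffine (∐ D))
  let c := Spec.preimage (Z.isoSpec.inv ≫ h₀ ≫ q)
  refine ⟨Γ(Z, ⊤), c, Z.isoSpec.inv ≫ h₀, by rw [Spec.map_preimage, Category.assoc], ?_, ?_⟩
  · rw [Spec.map_preimage]; infer_instance
  · rw [Spec.map_preimage]
    refine ⟨fun x => ?_⟩
    obtain ⟨i, hi, z, hz⟩ := Set.mem_iUnion₂.1 (ht (Set.mem_univ x))
    have hrange : ∀ (a : t), x ∈ Set.range (𝒲.f a.1 ≫ q) → ∀ j, e.symm j = a → x ∈ Set.range (h₀ ≫ q) := by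
      rintro a ⟨z, rfl⟩ j rfl
      refine ⟨(Sigma.ι D ⟨j⟩) z, ?_⟩
      rw [← Scheme.Hom.comp_apply]
      show (Sigma.ι D ⟨j⟩ ≫ h₀ ≫ q) z = _
      simp [h₀, D]
    obtain ⟨w, hw⟩ := hrange ⟨i, hi⟩ ⟨z, hz⟩ (e ⟨i, hi⟩) (e.symm_apply_apply _)
    refine ⟨Z.isoSpec.hom w, ?_⟩
    rw [← hw, ← Scheme.Hom.comp_apply, Iso.hom_inv_id_assoc]

theorem exists_cover_hasSection {S S' X : Scheme.{u}} (π : S' ⟶ S) [IsFinite π] (p : X ⟶ S') [Smooth p] [Surjective p] :
    ∃ R ∈ Scheme.fppfPrecoverage S, ∀ ⦃U : Scheme.{u}⦄ (g : U ⟶ S), R g →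
      ∃ s : pullback g π ⟶ X, s ≫ p = pullback.snd g π := by
  have key : ∀ (A : CommRingCat.{u}) (j : Spec A ⟶ S), ∃ (E : CommRingCat.{u}) (e : A ⟶ E),
      Etale (Spec.map e) ∧ Surjective (Spec.map e) ∧
        ∃ s : pullback (Spec.map e ≫ j) π ⟶ X, s ≫ p = pullback.snd (Spec.map e ≫ j) π := by
    intro A j
    haveI : IsFinite (pullback.fst j π) := MorphismProperty.pullback_fst _ _ inferInstance
    haveI : IsAffine (pullback j π) := isAffine_of_isAffineHom (pullback.fst j π)
    let B := Γ(pullback j π, ⊤)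
    let b := Spec.preimage ((pullback j π).isoSpec.inv ≫ pullback.fst j π)
    haveI : IsFinite (Spec.map b) := by rw [Spec.map_preimage]; infer_instance
    letI : Algebra A B := b.hom.toAlgebra
    haveI : Module.Finite A B := (IsFinite.SpecMap_iff b).1 inferInstance
    let r : Spec B ⟶ S' := (pullback j π).isoSpec.inv ≫ pullback.snd j π
    haveI : Smooth (pullback.snd p r) := MorphismProperty.pullback_snd (P := @Smooth) _ _ ‹_›
    haveI : Surjective (pullback.snd p r) := MorphismProperty.pullback_snd (P := @Surjective) _ _ ‹_›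
    obtain ⟨C, c, h, hh, _, _⟩ := exists_affine_cover (pullback.snd p r)
    letI : Algebra B C := c.hom.toAlgebra
    have hc : c.hom.Smooth := (HasRingHomProperty.Spec_iff (P := @Smooth)).1 ‹_›
    haveI : Algebra.Smooth B C := hc
    haveI : Algebra.FinitePresentation B C := Algebra.Smooth.finitePresentation
    haveI : Smooth (Spec.map (CommRingCat.ofHom (algebraMap B C))) := ‹Smooth (Spec.map c)›
    haveI : Surjective (Spec.map (CommRingCat.ofHom (algebraMap B C))) := ‹Surjective (Spec.map c)›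
    obtain ⟨E, _, _, het, hff, φ, hφ⟩ := exists_hom_cover A B C
    let e : A ⟶ CommRingCat.of E := CommRingCat.ofHom (algebraMap A E)
    refine ⟨CommRingCat.of E, e, (HasRingHomProperty.Spec_iff (P := @Etale)).2 (RingHom.etale_algebraMap.2 het),
      ⟨PrimeSpectrum.comap_surjective_of_faithfullyFlat⟩, ?_⟩
    let l : pullback (Spec.map e ≫ j) π ⟶ pullback (Spec.map e) (Spec.map b) :=
      pullback.lift (pullback.fst _ _)
        (pullback.lift (pullback.fst _ _ ≫ Spec.map e) (pullback.snd _ _)
          (by rw [Category.assoc, pullback.condition]) ≫ (pullback j π).isoSpec.hom)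
        (by rw [Category.assoc, Spec.map_preimage, Iso.hom_inv_id_assoc, pullback.lift_fst])
    refine ⟨l ≫ (pullbackSpecIso A E B).hom ≫ Spec.map (CommRingCat.ofHom φ) ≫ h ≫ pullback.fst p r, ?_⟩
    simp only [Category.assoc]
    rw [pullback.condition, reassoc_of% hh, ← Spec.map_comp_assoc]
    have hcφ : c ≫ CommRingCat.ofHom φ =
        CommRingCat.ofHom (Algebra.TensorProduct.includeRight : B →ₐ[A] E ⊗[A] B).toRingHom :=
      CommRingCat.hom_ext hφ
    rw [hcφ]
    erw [pullbackSpecIso_hom_snd_assoc]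
    simp only [l, r]
    erw [pullback.lift_snd_assoc]
    simp
  choose E e he1 he2 hs using key
  let 𝒰 := S.affineCover
  have hA : ∀ i, ∃ (A : CommRingCat.{u}) (j : Spec A ⟶ S) (_ : IsOpenImmersion j), Set.range j = Set.range (𝒰.f i) := by
    intro i
    refine ⟨Γ(𝒰.X i, ⊤), (𝒰.X i).isoSpec.inv ≫ 𝒰.f i, inferInstance, ?_⟩
    rw [Scheme.Hom.comp_base, TopCat.coe_comp, Set.range_comp, Set.range_eq_univ.2 (𝒰.X i).isoSpec.inv.surjective,
      Set.image_univ]
  choose A j hj hjr using hA
  refine ⟨Presieve.ofArrows (fun i => Spec (E (A i) (j i))) (fun i => Spec.map (e (A i) (j i)) ≫ j i), ?_, ?_⟩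
  · rw [Scheme.fppfPrecoverage, Scheme.ofArrows_mem_precoverage_iff]
    refine ⟨fun x => ?_, fun i => ?_⟩
    · obtain ⟨i, z, hz⟩ := Scheme.Cover.exists_eq 𝒰 x
      obtain ⟨z', hz'⟩ : x ∈ Set.range (j i) := by rw [hjr]; exact ⟨z, hz⟩
      obtain ⟨w, rfl⟩ := (he2 (A i) (j i)).surj z'
      exact ⟨i, w, by rw [Scheme.Hom.comp_apply, hz']⟩
    · haveI := he1 (A i) (j i)
      haveI := hj i
      exact ⟨inferInstance, inferInstance⟩
  · rintro U g ⟨i⟩
    exact hs _ _

end Groth.Agent.FinSect.SmoothTriv
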