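import Groth.Agent.FinSect.Extend
import Groth.Agent.Torsor.Descent
import Groth.Agent.FpqcDescent.Props

/-!
# Torsors under finite groups over normal integral schemes
-/

universe u

open CategoryTheory MonoidalCategory CartesianMonoidalCategory MonObj AlgebraicGeometry
open CategoryTheory.Limits

set_option backward.isDefEq.respectTransparency false
set_option backward.isDefEq.respectTransparency.types false

noncomputable section

namespace Groth.Agent.FinSect

open Groth.Agent.Torsor (smul)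

variable {X : Scheme.{u}} {G G' P P' : Over X} [GrpObj G] [GrpObj G']

theorem fpqc_of_fppf {a : AlgGrp.Action G P} (h : NonAbH1.IsTorsorFor Scheme.fppfPrecoverage a) :
    NonAbH1.IsTorsorFor Scheme.fpqcPrecoverage a := by
  obtain ⟨h, R, hR, hs⟩ := h
  exact ⟨h, R, Scheme.fppfPrecoverage_le_fpqcPrecoverage _ hR, hs⟩

theorem isFinite_torsor [IsFinite G.hom] {a : AlgGrp.Action G P}
    (h : NonAbH1.IsTorsorFor Scheme.fppfPrecoverage a) : IsFinite P.hom :=
  Torsor.of_isTorsorFor (fpqc_of_fppf h) @IsFinite ‹_›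

/-- A homomorphism which is an isomorphism after base change along `q` is bijective on points over `q`. -/
theorem bijective_points {T : Scheme.{u}} (q : T ⟶ X) (g : G ⟶ G')
    (hg : IsIso ((Over.pullback q).map g)) {U : Over X} (v : U ⟶ Over.mk q) :
    Function.Bijective (fun cc : U ⟶ G => cc ≫ g) := by
  let U' : Over T := Over.mk v.left
  let e : (Over.map q).obj U' ≅ U := Over.isoMk (Iso.refl _) (by
    show 𝟙 _ ≫ U.hom = v.left ≫ q
    rw [Category.id_comp]; exact (Over.w v).symm)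
  let adj := Over.mapPullbackAdj q
  have key : ∀ cc : U ⟶ G, adj.homEquiv _ _ (e.hom ≫ cc ≫ g) = adj.homEquiv _ _ (e.hom ≫ cc) ≫ (Over.pullback q).map g :=
    fun cc => by rw [← Category.assoc, adj.homEquiv_naturality_right]
  refine ⟨fun cc cc' h => ?_, fun δ => ?_⟩
  · have h1 : adj.homEquiv _ _ (e.hom ≫ cc ≫ g) = adj.homEquiv _ _ (e.hom ≫ cc' ≫ g) := by
      simp only at h; rw [h]
    rw [key, key, cancel_mono] at h1
    exact (cancel_epi e.hom).1 ((adj.homEquiv _ _).injective h1)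
  · let w := (adj.homEquiv _ _).symm (adj.homEquiv _ _ (e.hom ≫ δ) ≫ inv ((Over.pullback q).map g))
    refine ⟨e.inv ≫ w, ?_⟩
    show (e.inv ≫ w) ≫ g = δ
    rw [← cancel_epi e.hom, Category.assoc, e.hom_inv_id_assoc]
    apply (adj.homEquiv _ _).injective
    rw [adj.homEquiv_naturality_right, Equiv.apply_symm_apply, Category.assoc, IsIso.inv_hom_id, Category.comp_id]

/-- A torsor whose push-forward has a section has a section over every base where the homomorphism is an
isomorphism. -/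
theorem hasSectionOver_of_push {T : Scheme.{u}} (q : T ⟶ X) (g : G ⟶ G')
    (hg : IsIso ((Over.pullback q).map g)) {a : AlgGrp.Action G P}
    (hP : NonAbH1.IsTorsorFor Scheme.fppfPrecoverage a) {a' : AlgGrp.Action G' P'}
    (hP' : NonAbH1.IsPseudoTorsorSch a') (φ : P ⟶ P')
    (hφ : a.act ≫ φ = lift (fst G P ≫ g) (snd G P ≫ φ) ≫ a'.act)
    (htriv : NonAbH1.HasSectionOver P' (𝟙 X)) : NonAbH1.HasSectionOver P q := by
  obtain ⟨hiso, R, hR, hs⟩ := fpqc_of_fppf hP
  have heq : ∀ {U : Over X} (cc : U ⟶ G) (x : U ⟶ P), smul a cc x ≫ φ = smul a' (cc ≫ g) (x ≫ φ) := by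
    intro U cc x
    unfold Torsor.smul
    rw [Category.assoc, hφ, ← Category.assoc, comp_lift, lift_fst_assoc, lift_snd_assoc]
  have : IsIso (Over.mk q ◁ φ) := by
    refine Torsor.isIso_of_local _ hR fun S' f hf U t b => ?_
    obtain ⟨σ, hσ⟩ := hs f hf
    let x₀ : U ⟶ P := t ≫ Over.homMk σ hσ
    obtain ⟨δ, hδ, hδu⟩ := (Torsor.isPseudoTorsor_iff a').1 hP' U (x₀ ≫ φ) (b ≫ snd _ _)
    obtain ⟨hinj, hsurj⟩ := bijective_points q g hg (b ≫ fst _ _)
    obtain ⟨cc, hcc⟩ := hsurj δ
    refine ⟨lift (b ≫ fst _ _) (smul a cc x₀), ?_, fun z hz => ?_⟩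
    · show lift (b ≫ fst _ _) (smul a cc x₀) ≫ (Over.mk q ◁ φ) = b
      rw [lift_whiskerLeft, heq, show cc ≫ g = δ from hcc, hδ, lift_comp_fst_snd]
    · obtain ⟨cc', hcc', -⟩ := (Torsor.isPseudoTorsor_iff a).1 hiso U x₀ (z ≫ snd _ _)
      have h1 : z ≫ fst _ _ = b ≫ fst _ _ := by rw [← hz, Category.assoc, whiskerLeft_fst]
      have h2 : smul a' (cc' ≫ g) (x₀ ≫ φ) = b ≫ snd _ _ := by
        rw [← heq, hcc', ← hz, Category.assoc, Category.assoc, whiskerLeft_snd]
      have h3 : cc' = cc := hinj ((hδu _ h2).trans hcc.symm)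
      apply CartesianMonoidalCategory.hom_ext
      · rw [lift_fst, h1]
      · rw [lift_snd, ← h3, hcc']
  obtain ⟨σ', hσ'⟩ := htriv
  let s' : 𝟙_ (Over X) ⟶ P' := Over.homMk σ' hσ'
  let z := lift (𝟙 (Over.mk q)) (toUnit (Over.mk q) ≫ s') ≫ inv (Over.mk q ◁ φ) ≫ snd _ _
  exact ⟨z.left, Over.w z⟩

variable [IsIntegral X] (hX : Pi1.IsNormalScheme X)

include hX in
/-- A torsor under a finite group over a normal integral scheme with a generic section has a section. -/
theorem hasSectionOver_of_generic [IsFinite G.hom] {a : AlgGrp.Action G P}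
    (h : NonAbH1.IsTorsorFor Scheme.fppfPrecoverage a)
    (hgen : NonAbH1.HasSectionOver P (X.fromSpecStalk (genericPoint X))) :
    NonAbH1.HasSectionOver P (𝟙 X) := by
  haveI : IsFinite P.hom := isFinite_torsor h
  obtain ⟨y, hy⟩ := hgen
  obtain ⟨σ, hσ, -⟩ := exists_section P.hom hX (Spec.map (X.residue (genericPoint X)) ≫ y)
    (by rw [Category.assoc, hy]; rfl)
  exact ⟨σ, hσ⟩

end Groth.Agent.FinSect
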