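import Groth.Agent.FinSect.Isom
import Groth.Agent.S0086
import Groth.Prelude.Def_Neron
import Mathlib.AlgebraicGeometry.ValuativeCriterion
import Mathlib.RingTheory.DedekindDomain.Dvr

/-!
# Sections of proper schemes over bases all of whose local rings are valuation rings
-/

universe u

open CategoryTheory CategoryTheory.Limits AlgebraicGeometry TopologicalSpace

set_option backward.isDefEq.respectTransparency false
set_option backward.isDefEq.respectTransparency.types false

noncomputable section

namespace Groth.Agent.FinSect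

variable {S Z : Scheme.{u}} [IsIntegral S] (f : Z ⟶ S)

theorem exists_section_nhd [UniversallyClosed f] [LocallyOfFiniteType f]
    (x : Spec (S.residueField (genericPoint S)) ⟶ Z) (hx : x ≫ f = S.fromSpecResidueField (genericPoint S))
    (s : S) (hs : ValuationRing (S.presheaf.stalk s)) :
    ∃ (U : S.Opens) (_ : s ∈ U) (σ : U.toScheme ⟶ Z),
      σ ≫ f = U.ι ∧ ∃ l : Spec (S.residueField (genericPoint S)) ⟶ U.toScheme,
        l ≫ U.ι = S.fromSpecResidueField (genericPoint S) ∧ l ≫ σ = x := by
  haveI := hs
  have hsp : genericPoint S ⤳ s := genericPoint_specializes _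
  haveI hres : IsIso (S.residue (genericPoint S)) := (ConcreteCategory.isIso_iff_bijective _).2
    ⟨RingHom.injective (R := S.functionField) _, S.residue_surjective (genericPoint S)⟩
  let i₁ : Spec S.functionField ⟶ Z := Spec.map (inv (S.residue (genericPoint S))) ≫ x
  have hi₁ : i₁ ≫ f = S.fromSpecStalk (genericPoint S) := by
    rw [Category.assoc, hx, Scheme.fromSpecResidueField, ← Category.assoc, ← Spec.map_comp,
      IsIso.hom_inv_id, Spec.map_id, Category.id_comp]
  have halg : CommRingCat.ofHom (algebraMap (S.presheaf.stalk s) S.functionField) =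
      S.presheaf.stalkSpecializes hsp := rfl
  have hex : ValuativeCriterion.Existence f := by
    have h : UniversallyClosed f := inferInstance
    rw [UniversallyClosed.eq_valuativeCriterion] at h
    exact h.1
  let sq : ValuativeCommSq f :=
    { R := S.presheaf.stalk s
      K := S.functionField
      i₁ := i₁
      i₂ := S.fromSpecStalk s
      commSq := ⟨by
        rw [halg, Scheme.SpecMap_stalkSpecializes_fromSpecStalk]
        exact hi₁⟩ }
  haveI : sq.commSq.HasLift := hex sq
  let φ := sq.commSq.lift
  have hφ₁ : Spec.map (S.presheaf.stalkSpecializes hsp) ≫ φ = i₁ := by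
    rw [← halg]; exact sq.commSq.fac_left
  have hφ₂ : φ ≫ f = S.fromSpecStalk s ≫ 𝟙 S := by
    rw [Category.comp_id]; exact sq.commSq.fac_right
  obtain ⟨U, hU, σ, hσ, hσf⟩ := spread_out_of_isGermInjective' (𝟙 S) f (x := s) φ hφ₂
  rw [Category.comp_id] at hσf
  refine ⟨U, hU, σ, hσf, Spec.map (S.residue (genericPoint S)) ≫ Spec.map (S.presheaf.stalkSpecializes hsp) ≫
    U.fromSpecStalkOfMem s hU, ?_, ?_⟩
  · rw [Category.assoc, Category.assoc, Scheme.Opens.fromSpecStalkOfMem_ι,
      Scheme.SpecMap_stalkSpecializes_fromSpecStalk]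
    rfl
  · rw [Category.assoc, Category.assoc, ← hσ, hφ₁]
    simp only [i₁]
    rw [← Category.assoc, ← Spec.map_comp, IsIso.inv_hom_id, Spec.map_id, Category.id_comp]

/-- Over an integral scheme whose local rings are valuation rings a rational generic point of a proper
scheme extends to a section. -/
theorem exists_section_of_isProper [IsProper f] (hS : ∀ s : S, ValuationRing (S.presheaf.stalk s))
    (x : Spec (S.residueField (genericPoint S)) ⟶ Z) (hx : x ≫ f = S.fromSpecResidueField (genericPoint S)) :
    ∃ σ : S ⟶ Z, σ ≫ f = 𝟙 S ∧ S.fromSpecResidueField (genericPoint S) ≫ σ = x := by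
  choose U hU σ hσ l hl hlσ using fun s => exists_section_nhd f x hx s (hS s)
  have hcov : IsOpenCover U := .mk (top_le_iff.mp fun s _ => TopologicalSpace.Opens.mem_iSup.2 ⟨s, hU s⟩)
  let C := S.openCoverOfIsOpenCover U hcov
  have hglue : ∀ i j : C.I₀, pullback.fst (C.f i) (C.f j) ≫ σ i = pullback.snd (C.f i) (C.f j) ≫ σ j := by
    intro i j
    haveI : IsReduced (pullback (C.f i) (C.f j)) :=
      isReduced_of_isOpenImmersion (pullback.fst (C.f i) (C.f j) ≫ C.f i)
    have e : l i ≫ C.f i = l j ≫ C.f j := (hl i).trans (hl j).symm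
    haveI := EtTorsGen.isDominant_of_openImmersion (pullback.fst (C.f i) (C.f j) ≫ C.f i)
      (pullback.lift (l i) (l j) e) (by rw [pullback.lift_fst_assoc]; exact hl i)
    refine ext_of_isDominant_of_isSeparated f ?_ (pullback.lift (l i) (l j) e) ?_
    · rw [Category.assoc, Category.assoc, hσ i, hσ j]
      exact pullback.condition
    · rw [pullback.lift_fst_assoc, pullback.lift_snd_assoc, hlσ i, hlσ j]
  refine ⟨C.glueMorphisms σ hglue, C.hom_ext _ _ fun i => ?_, ?_⟩
  · rw [Scheme.Cover.ι_glueMorphisms_assoc, hσ i, Category.comp_id]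
    rfl
  · obtain ⟨i⟩ : Nonempty S := inferInstance
    rw [← hl i, Category.assoc]
    show l i ≫ C.f i ≫ C.glueMorphisms σ hglue = x
    rw [Scheme.Cover.ι_glueMorphisms, hlσ i]

section Dedekind

variable (R : Type u) [CommRing R] [IsDedekindDomain R]

theorem valuationRing_stalk (s : Spec (CommRingCat.of R)) :
    ValuationRing ((Spec (CommRingCat.of R)).presheaf.stalk s) := by
  by_cases h : s.asIdeal = ⊥
  · have hs : s = genericPoint (Spec (CommRingCat.of R)) := by
      rw [genericPoint_eq_bot_of_affine]
      exact PrimeSpectrum.ext h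
    subst hs
    exact (inferInstance : ValuationRing (Spec (CommRingCat.of R)).functionField)
  · letI : Algebra R ((Spec (CommRingCat.of R)).presheaf.stalk s) := StructureSheaf.stalkAlgebra R s
    haveI : IsLocalization.AtPrime ((Spec (CommRingCat.of R)).presheaf.stalk s) s.asIdeal :=
      StructureSheaf.IsLocalization.to_stalk R s
    haveI : IsDiscreteValuationRing ((Spec (CommRingCat.of R)).presheaf.stalk s) :=
      IsLocalization.AtPrime.isDiscreteValuationRing_of_dedekind_domain R h _
    infer_instance

/-- A section over `Spec` of the fraction field of a Dedekind domain of a proper scheme extends. -/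
theorem exists_section_dedekind {Z : Scheme.{u}} (f : Z ⟶ Spec (CommRingCat.of R)) [IsProper f]
    (y : Spec (CommRingCat.of (FractionRing R)) ⟶ Z) (hy : y ≫ f = Neron.genPt R) :
    ∃ σ : Spec (CommRingCat.of R) ⟶ Z, σ ≫ f = 𝟙 _ ∧ Neron.genPt R ≫ σ = y := by
  let S := Spec (CommRingCat.of R)
  let q := S.fromSpecResidueField (genericPoint S)
  let ρ : CommRingCat.of R ⟶ S.residueField (genericPoint S) := Spec.preimage q
  have hρ : Spec.map ρ = q := Spec.map_preimage q
  have hker : Function.Injective ρ.hom := by
    rw [RingHom.injective_iff_ker_eq_bot]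
    have h1 : q (IsLocalRing.closedPoint (S.residueField (genericPoint S))) = genericPoint S :=
      Scheme.fromSpecResidueField_apply _ _
    rw [← hρ] at h1
    have h2 : Ideal.comap ρ.hom (IsLocalRing.maximalIdeal (S.residueField (genericPoint S))) = ⊥ :=
      (congrArg PrimeSpectrum.asIdeal h1).trans
        (congrArg PrimeSpectrum.asIdeal (genericPoint_eq_bot_of_affine (CommRingCat.of R)))
    rwa [IsLocalRing.maximalIdeal_eq_bot, ← RingHom.ker_eq_comap_bot] at h2
  let θ : CommRingCat.of (FractionRing R) ⟶ S.residueField (genericPoint S) :=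
    CommRingCat.ofHom (IsFractionRing.lift hker)
  have hθ : Spec.map θ ≫ Neron.genPt R = q := by
    rw [← hρ, ← Spec.map_comp]
    congr 1
    ext r
    exact IsFractionRing.lift_algebraMap hker r
  obtain ⟨σ, hσ, hσx⟩ := exists_section_of_isProper f (valuationRing_stalk R) (Spec.map θ ≫ y)
    (by rw [Category.assoc, hy, hθ])
  refine ⟨σ, hσ, ?_⟩
  haveI : IsDominant (Spec.map θ) := ⟨Function.Surjective.denseRange fun p => by
    obtain ⟨p'⟩ : Nonempty (Spec (S.residueField (genericPoint S))) := inferInstance
    exact ⟨p', Subsingleton.elim _ _⟩⟩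
  refine ext_of_isDominant_of_isSeparated f ?_ (Spec.map θ) ?_
  · rw [Category.assoc, hσ, Category.comp_id, hy]
  · rw [← Category.assoc, hθ]; exact hσx

end Dedekind

end Groth.Agent.FinSect
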